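import Mathlib

/-!
Lifting the fusion of a cyclic section to an element of prime order: Sylow subgroups of preimages,
conjugation into an abelian subgroup of index prime to r, and eigenvectors by averaging.
-/

set_option autoImplicit false
set_option linter.unusedSectionVars false

namespace Cfsg.Agent.Small.AltSec

/-- An r-subgroup of C is conjugate in C into a subgroup of C of index prime to r. -/
theorem conj_into {G : Type*} [Group G] [Finite G] {r : ℕ} [Fact r.Prime] {T C P : Subgroup G}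
    (hT : T ≤ C) (hidx : ¬ r ∣ T.index) (hP : P ≤ C) (hPr : IsPGroup r ↥P) :
    ∃ c ∈ C, ∀ y ∈ P, c * y * c⁻¹ ∈ T := by
  obtain ⟨Q, hQ⟩ := (hPr.comap_subtype (K := C)).exists_le_sylow
  obtain ⟨R⟩ : Nonempty (Sylow r ↥(T.subgroupOf C)) := inferInstance
  set R' : Subgroup ↥C := (R : Subgroup ↥(T.subgroupOf C)).map (T.subgroupOf C).subtype with hR'
  have hR : IsPGroup r ↥R' := R.2.map _
  have hidx' : ¬ r ∣ R'.index := by
    rw [hR', Subgroup.index_map_subtype]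
    intro h
    rcases ((Fact.out : r.Prime).dvd_mul).1 h with h | h
    · exact R.not_dvd_index h
    · exact hidx (h.trans (Subgroup.relIndex_mul_index hT ▸ Dvd.intro C.index rfl))
  obtain ⟨c, hc⟩ := MulAction.exists_smul_eq ↥C Q (hR.toSylow hidx')
  refine ⟨c, c.2, fun y hy => ?_⟩
  have h1 : c * ⟨y, hP hy⟩ * c⁻¹ ∈ ((c • Q : Sylow r ↥C) : Subgroup ↥C) := by
    rw [Sylow.coe_subgroup_smul]
    exact Subgroup.mem_map.2 ⟨⟨y, hP hy⟩, hQ (show (⟨y, hP hy⟩ : ↥C) ∈ P.comap C.subtype from hy), rfl⟩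
  rw [hc] at h1
  have h2 : c * ⟨y, hP hy⟩ * c⁻¹ ∈ T.subgroupOf C := Subgroup.map_subtype_le _ h1
  exact h2

/-- A Sylow subgroup of a preimage reaches σ, and the normaliser reaches everything normalising. -/
theorem sylow_over {H A : Type*} [Group H] [Finite H] [Group A] {r : ℕ} [Fact r.Prime] (π : H →* A)
    (X : Subgroup H) {σ : A} (hX : ∀ x ∈ X, π x ∈ Subgroup.zpowers σ) (hσ : σ ∈ X.map π)
    (hs : σ ^ r = 1) :
    ∃ S : Subgroup H, S ≤ X ∧ IsPGroup r ↥S ∧ (∃ a ∈ S, π a = σ) ∧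
      ∀ t0 : H, (∀ y ∈ X, t0 * y * t0⁻¹ ∈ X) → ∃ l ∈ X, ∀ y ∈ S, (l * t0) * y * (l * t0)⁻¹ ∈ S := by
  classical
  obtain ⟨P⟩ : Nonempty (Sylow r ↥X) := inferInstance
  refine ⟨(P : Subgroup ↥X).map X.subtype, Subgroup.map_subtype_le _, P.2.map _, ?_, ?_⟩
  · by_cases h1 : σ = 1
    · exact ⟨1, one_mem _, by rw [map_one, h1]⟩
    have hσo : orderOf σ = r := orderOf_eq_prime hs h1
    let ψ : ↥X →* ↥(Subgroup.zpowers σ) := (π.comp X.subtype).codRestrict _ fun y => hX y y.2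
    have hψ : Function.Surjective ψ := by
      obtain ⟨z, hz, hzσ⟩ := Subgroup.mem_map.1 hσ
      rintro ⟨y, hy⟩
      obtain ⟨j, rfl⟩ := Subgroup.mem_zpowers_iff.1 hy
      exact ⟨⟨z, hz⟩ ^ j, Subtype.ext (by
        show π ((⟨z, hz⟩ ^ j : ↥X) : H) = σ ^ j
        rw [SubgroupClass.coe_zpow, map_zpow, hzσ])⟩
    haveI : Finite ↥(Subgroup.zpowers σ) := Finite.of_surjective ψ hψ
    have hz : IsPGroup r ↥(Subgroup.zpowers σ) := IsPGroup.of_card (n := 1) (by rw [Nat.card_zpowers, hσo, pow_one])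
    have htop : (P : Subgroup ↥X).map ψ = ⊤ := by
      rw [← Subgroup.index_eq_one]
      have hdvd : ((P : Subgroup ↥X).map ψ).index ∣ (P : Subgroup ↥X).index := Subgroup.index_map_dvd _ hψ
      obtain ⟨n, hn⟩ := hz.index ((P : Subgroup ↥X).map ψ)
      rcases Nat.eq_zero_or_pos n with rfl | hn0
      · simpa using hn
      · exact absurd ((dvd_pow_self r hn0.ne').trans (hn ▸ hdvd)) P.not_dvd_index
    obtain ⟨a, ha, hae⟩ := Subgroup.mem_map.1 (show (⟨σ, Subgroup.mem_zpowers σ⟩ : ↥(Subgroup.zpowers σ)) ∈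
      (P : Subgroup ↥X).map ψ by rw [htop]; exact Subgroup.mem_top _)
    exact ⟨a, ⟨a, ha, rfl⟩, congrArg Subtype.val hae⟩
  · intro t0 ht
    let cn : ↥X →* ↥X := MonoidHom.mk' (fun y => ⟨t0 * y * t0⁻¹, ht _ y.2⟩) fun a b => Subtype.ext (by
      show t0 * (a.1 * b.1) * t0⁻¹ = t0 * a.1 * t0⁻¹ * (t0 * b.1 * t0⁻¹); group)
    have hcn : Function.Injective cn := fun a b h => by
      have h' : t0 * a.1 * t0⁻¹ = t0 * b.1 * t0⁻¹ := congrArg Subtype.val h
      exact Subtype.ext (by simpa using h')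
    let P' : Sylow r ↥X := Sylow.ofCard ((P : Subgroup ↥X).map cn) (by
      rw [← Nat.card_congr (Subgroup.equivMapOfInjective _ cn hcn).toEquiv, Sylow.card_eq_multiplicity])
    obtain ⟨l, hl⟩ := MulAction.exists_smul_eq ↥X P' P
    refine ⟨l, l.2, ?_⟩
    rintro _ ⟨y, hy, rfl⟩
    refine ⟨l * cn y * l⁻¹, ?_, ?_⟩
    · have h1 : l * cn y * l⁻¹ ∈ ((l • P' : Sylow r ↥X) : Subgroup ↥X) := by
        rw [Sylow.coe_subgroup_smul]
        exact Subgroup.mem_map.2 ⟨cn y, Subgroup.mem_map.2 ⟨y, hy, rfl⟩, rfl⟩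
      rwa [hl] at h1
    · show (l : H) * (t0 * y * t0⁻¹) * (l : H)⁻¹ = (l * t0) * y * (l * t0)⁻¹
      group

theorem exists_rpart {H : Type*} [Group H] [Finite H] (r : ℕ) [Fact r.Prime] (t : H) :
    ∃ e k : ℕ, ¬ r ∣ e ∧ (t ^ e) ^ r ^ k = 1 := by
  refine ⟨orderOf t / r ^ (orderOf t).factorization r, (orderOf t).factorization r,
    Nat.not_dvd_ordCompl Fact.out (orderOf_pos t).ne', ?_⟩
  rw [← pow_mul, Nat.div_mul_cancel (Nat.ordProj_dvd _ _), pow_orderOf_eq_one]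

/-- An automorphism of order prime to r inducing x ↦ x^i on a section of order r has such an eigenvector. -/
theorem eigen_lift {P B : Type*} [CommGroup P] [Finite P] [Group B] {r : ℕ} [Fact r.Prime] (hP : IsPGroup r P)
    (f : P →* P) {N : ℕ} (hfN : ∀ x, (fun y => f y)^[N] x = x) {i : ℕ} (hiN : i ^ N % r = 1)
    (hN : ¬ r ∣ N) (φ : P →* B) (hφ : ∀ x, φ (f x) = φ x ^ i) {s : B} (hs : s ^ r = 1) (hs1 : s ≠ 1)
    (a : P) (ha : φ a = s) :
    ∃ x : P, x ≠ 1 ∧ x ^ r = 1 ∧ f x = x ^ i := by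
  have hr : r.Prime := Fact.out
  obtain ⟨k, hk⟩ := IsPGroup.iff_card.1 hP
  set c := i ^ r ^ k with hc
  have hci : (c : ZMod r) = (i : ZMod r) := by
    rw [hc, Nat.cast_pow, ZMod.pow_card_pow]
  have hi1 : ((i : ZMod r)) ^ N = 1 := by
    have h : ((i ^ N : ℕ) : ZMod r) = ((1 : ℕ) : ZMod r) := by
      rw [← ZMod.natCast_mod, hiN]
    simpa using h
  have hcN : ∀ y : P, y ^ c ^ N = y := by
    intro y
    have h1 : (r : ℤ) ∣ (i : ℤ) ^ N - 1 := by
      rw [← ZMod.intCast_zmod_eq_zero_iff_dvd]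
      push_cast
      rw [hi1, sub_self]
    have h2 := dvd_sub_pow_of_dvd_sub h1 k
    rw [one_pow] at h2
    have h3 : ((Nat.card P : ℕ) : ℤ) ∣ ((c ^ N : ℕ) : ℤ) - 1 := by
      rw [hk]
      push_cast
      refine dvd_trans (pow_dvd_pow _ (Nat.le_succ k)) ?_
      have : ((c : ℤ)) ^ N = ((i : ℤ) ^ N) ^ r ^ k := by
        rw [hc]; push_cast; rw [← pow_mul, ← pow_mul, mul_comm]
      rw [this]
      exact h2
    obtain ⟨d, hd⟩ := h3
    calc y ^ c ^ N = y ^ ((c ^ N : ℕ) : ℤ) := (zpow_natCast _ _).symm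
      _ = y ^ (1 + ((Nat.card P : ℕ) : ℤ) * d) := by rw [← hd]; congr 1; ring
      _ = y := by
        rw [zpow_add, zpow_one, zpow_mul, zpow_natCast, pow_card_eq_one', one_zpow, mul_one]
  set g : ℕ → P := fun j => ((fun y => f y)^[j] a) ^ c ^ (N - j) with hg
  set x' := ∏ j ∈ Finset.range N, g j with hx'
  have hfx : f x' = x' ^ c := by
    rw [hx', map_prod, ← Finset.prod_pow]
    have step : ∀ j ∈ Finset.range N, f (g j) = g (j + 1) ^ c := by
      intro j hj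
      rw [Finset.mem_range] at hj
      simp only [hg]
      rw [map_pow, Function.iterate_succ_apply', show N - j = (N - (j + 1)) + 1 by omega, pow_succ c, pow_mul]
    rw [Finset.prod_congr rfl step]
    have h0 : g 0 ^ c = g N ^ c := by
      simp only [hg, Function.iterate_zero, id, Nat.sub_zero, Nat.sub_self, pow_zero, pow_one, hfN, hcN]
    have e1 := Finset.prod_range_succ (fun j => g j ^ c) N
    have e2 := Finset.prod_range_succ' (fun j => g j ^ c) N
    rw [e1, h0] at e2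
    exact (mul_right_cancel e2).symm
  have hφj : ∀ j : ℕ, φ ((fun y => f y)^[j] a) = s ^ i ^ j := by
    intro j
    induction j with
    | zero => simp [ha]
    | succ j ih => rw [Function.iterate_succ_apply', hφ, ih, ← pow_mul, pow_succ]
  have hφg : ∀ j ∈ Finset.range N, φ (g j) = s := by
    intro j hj
    rw [Finset.mem_range] at hj
    simp only [hg]
    rw [map_pow, hφj, ← pow_mul, pow_eq_pow_mod _ hs]
    have : (i ^ j * c ^ (N - j)) % r = 1 % r := by
      rw [← ZMod.natCast_eq_natCast_iff']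
      push_cast
      rw [hci, ← pow_add, show j + (N - j) = N by omega, hi1]
    rw [this, Nat.mod_eq_of_lt hr.one_lt, pow_one]
  have hφx : φ x' = s ^ N := by
    have aux : ∀ M ≤ N, φ (∏ j ∈ Finset.range M, g j) = s ^ M := by
      intro M hM
      induction M with
      | zero => simp
      | succ M ih =>
        rw [Finset.prod_range_succ, map_mul, ih (by omega), hφg M (Finset.mem_range.2 (by omega)), ← pow_succ]
    exact aux N le_rfl
  have hx1 : x' ≠ 1 := by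
    intro h
    rw [h, map_one] at hφx
    exact hN ((orderOf_eq_prime hs hs1) ▸ orderOf_dvd_of_pow_eq_one hφx.symm)
  obtain ⟨m, hm⟩ := IsPGroup.iff_orderOf.1 hP x'
  have hm0 : 0 < m := Nat.pos_of_ne_zero fun h => hx1 (orderOf_eq_one_iff.1 (by rw [hm, h, pow_zero]))
  refine ⟨x' ^ r ^ (m - 1), fun h => ?_, ?_, ?_⟩
  · have h1 := orderOf_dvd_of_pow_eq_one h
    rw [hm] at h1
    have h2 := Nat.pow_dvd_pow_iff_le_right hr.one_lt |>.1 h1
    omega
  · rw [← pow_mul, ← pow_succ, show m - 1 + 1 = m by omega, ← hm, pow_orderOf_eq_one]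
  · rw [map_pow, hfx, ← pow_mul, mul_comm, pow_mul]
    have h5 : (x' ^ r ^ (m - 1)) ^ r = 1 := by
      rw [← pow_mul, ← pow_succ, show m - 1 + 1 = m by omega, ← hm, pow_orderOf_eq_one]
    rw [pow_eq_pow_mod c h5, pow_eq_pow_mod i h5, (ZMod.natCast_eq_natCast_iff' _ _ _).1 hci]

/-- Fusion by t agrees with n on P, so their powers agree. -/
theorem agree_pow {G : Type*} [Group G] {P : Subgroup G} {t n c : G}
    (hn : ∀ y ∈ P, t * y * t⁻¹ ∈ P) (he : ∀ y ∈ P, c * (t * y * t⁻¹) * c⁻¹ = n * (c * y * c⁻¹) * n⁻¹) :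
    ∀ k : ℕ, ∀ y ∈ P, t ^ k * y * (t ^ k)⁻¹ ∈ P ∧
      c * (t ^ k * y * (t ^ k)⁻¹) * c⁻¹ = n ^ k * (c * y * c⁻¹) * (n ^ k)⁻¹ := by
  intro k
  induction k with
  | zero => intro y hy; simpa using hy
  | succ k ih =>
    intro y hy
    obtain ⟨h1, h2⟩ := ih y hy
    have e : t ^ (k + 1) * y * (t ^ (k + 1))⁻¹ = t * (t ^ k * y * (t ^ k)⁻¹) * t⁻¹ := by
      rw [pow_succ']; group
    rw [e]
    refine ⟨hn _ h1, ?_⟩
    rw [he _ h1, h2, pow_succ' n]; group

end Cfsg.Agent.Small.AltSec
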