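import Cfsg.Agent.Lib.Small.AltSec.F4Table
import Cfsg.Agent.Lib.Small.ChevInvol.Normal
import Cfsg.Agent.Lib.Lie.FactsF4
import Cfsg.Agent.Lib.Lie.TorusCerts
import Cfsg.Agent.Lib.Lie.BruhatAux

/-!
No element of the monomial subgroup of F4 acts as 2 on an element of order 5 and as 3 on one of
order 7 of the torus.
-/

set_option autoImplicit false
set_option maxRecDepth 100000

namespace Cfsg.Agent.Small.AltSec.F4W

open Cfsg.Lie Cfsg.Agent.Lie Cfsg.Agent.Small.ChevInvol
open scoped MatrixGroups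

/-- An entry of a coded matrix. -/
def dec (code m k : ℕ) : ℤ := ((code / 16 ^ (4 * m + k) % 16 : ℕ) : ℤ) - 8

/-- The matrix of position k. -/
def mat (k : ℕ) : ℕ := ((f4Tab.getD (k / 34) []).getD (k % 34) (0, 0)).1

/-- The neighbour of position k. -/
def nbr (k i : ℕ) : ℕ := ((f4Tab.getD (k / 34) []).getD (k % 34) (0, 0)).2 / 2048 ^ i % 2048

/-- A row after one reflection. -/
def newEnt (code i m k : ℕ) : ℤ :=
  if m = i then dec code i k - ((f4CT.getD i []).getD 0 0 * dec code 0 k + (f4CT.getD i []).getD 1 0 * dec code 1 k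
    + (f4CT.getD i []).getD 2 0 * dec code 2 k + (f4CT.getD i []).getD 3 0 * dec code 3 k)
  else dec code m k

/-- Determinant in dimension four. -/
def det4 (a : ℕ → ℕ → ℤ) : ℤ :=
  a 0 0 * (a 1 1 * (a 2 2 * a 3 3 - a 2 3 * a 3 2) - a 1 2 * (a 2 1 * a 3 3 - a 2 3 * a 3 1) + a 1 3 * (a 2 1 * a 3 2 - a 2 2 * a 3 1))
  - a 0 1 * (a 1 0 * (a 2 2 * a 3 3 - a 2 3 * a 3 2) - a 1 2 * (a 2 0 * a 3 3 - a 2 3 * a 3 0) + a 1 3 * (a 2 0 * a 3 2 - a 2 2 * a 3 0))
  + a 0 2 * (a 1 0 * (a 2 1 * a 3 3 - a 2 3 * a 3 1) - a 1 1 * (a 2 0 * a 3 3 - a 2 3 * a 3 0) + a 1 3 * (a 2 0 * a 3 1 - a 2 1 * a 3 0))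
  - a 0 3 * (a 1 0 * (a 2 1 * a 3 2 - a 2 2 * a 3 1) - a 1 1 * (a 2 0 * a 3 2 - a 2 2 * a 3 0) + a 1 2 * (a 2 0 * a 3 1 - a 2 1 * a 3 0))

/-- The entry minus a scalar matrix. -/
def shift (code : ℕ) (l : ℤ) (m k : ℕ) : ℤ := dec code m k - if m = k then l else 0

/-- All checks at one position. -/
def okAt (k : ℕ) : Bool :=
  (List.range 4).all (fun i => decide (nbr k i < 1152) && (List.range 4).all fun m => (List.range 4).all fun t =>
    dec (mat (nbr k i)) m t == newEnt (mat k) i m t) &&
  (det4 (shift (mat k) 2) % 5 != 0 || det4 (shift (mat k) 3) % 7 != 0)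

/-- All checks in one block. -/
def okBlock (b : ℕ) : Bool := (List.range 64).all fun j => okAt (64 * b + j)

theorem ok0 : (List.range 3).all okBlock = true := by decide +kernel
theorem ok1 : (List.range 3).all (fun b => okBlock (3 + b)) = true := by decide +kernel
theorem ok2 : (List.range 3).all (fun b => okBlock (6 + b)) = true := by decide +kernel
theorem ok3 : (List.range 3).all (fun b => okBlock (9 + b)) = true := by decide +kernel
theorem ok4 : (List.range 3).all (fun b => okBlock (12 + b)) = true := by decide +kernel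
theorem ok5 : (List.range 3).all (fun b => okBlock (15 + b)) = true := by decide +kernel

theorem one_ok : ((List.range 4).all fun m => (List.range 4).all fun k =>
    dec (mat 0) m k == if m = k then 1 else 0) = true := by decide +kernel

theorem cart_ok : ((List.range 4).all fun i => (List.range 4).all fun m =>
    (f4CT.getD i []).getD m 0 == chevF4.cartan m (chevF4.simple i)) = true := by decide +kernel

theorem okAt_all {k : ℕ} (hk : k < 1152) : okAt k = true := by
  have h : okBlock (k / 64) = true := by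
    have h1 : k / 64 < 18 := by omega
    have hall : ∀ b, b < 18 → okBlock b = true := by
      intro b hb
      have key : ∀ a, ((List.range 3).all fun c => okBlock (a + c)) = true → ∀ c, c < 3 → okBlock (a + c) = true :=
        fun a h c hc => List.all_eq_true.1 h c (List.mem_range.2 hc)
      have h0 : ((List.range 3).all fun c => okBlock (0 + c)) = true := by simpa using ok0
      obtain ⟨a, c, hc, rfl, ha⟩ : ∃ a c, c < 3 ∧ b = a + c ∧ (a = 0 ∨ a = 3 ∨ a = 6 ∨ a = 9 ∨ a = 12 ∨ a = 15) :=
        ⟨3 * (b / 3), b % 3, Nat.mod_lt _ (by norm_num), (Nat.div_add_mod b 3).symm, by omega⟩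
      rcases ha with rfl | rfl | rfl | rfl | rfl | rfl
      exacts [key 0 h0 c hc, key 3 ok1 c hc, key 6 ok2 c hc, key 9 ok3 c hc, key 12 ok4 c hc, key 15 ok5 c hc]
    exact hall _ h1
  have := List.all_eq_true.1 h (k % 64) (List.mem_range.2 (Nat.mod_lt _ (by norm_num)))
  rwa [Nat.div_add_mod] at this

variable {K : Type*} [Field K]

theorem rank_eq : chevF4.rank = 4 := rfl

/-- A word acting on torus coordinates. -/
noncomputable def wordT (ω : List (Fin chevF4.rank)) (c : Fin chevF4.rank → Kˣ) : Fin chevF4.rank → Kˣ :=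
  ω.foldr (fun i v => reflT i v) c

theorem nw_conj (ω : List (Fin chevF4.rank)) (c : Fin chevF4.rank → Kˣ) :
    (factsF4.tsys K).nw ω * torus chevF4 K c * ((factsF4.tsys K).nw ω)⁻¹ = torus chevF4 K (wordT ω c) := by
  induction ω with
  | nil => simp [TorusSys.nw_nil, wordT]
  | cons i ω ih =>
    rw [show wordT (i :: ω) c = reflT i (wordT ω c) from rfl, ← nS_torus factsF4, ← ih, TorusSys.nw_cons]
    group

theorem exists_mat (ω : List (Fin chevF4.rank)) : ∃ k < 1152, ∀ c : Fin chevF4.rank → Kˣ, ∀ m : Fin chevF4.rank,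
    wordT ω c m = ∏ t : Fin chevF4.rank, c t ^ dec (mat k) m t := by
  induction ω with
  | nil =>
    refine ⟨0, by norm_num, fun c m => ?_⟩
    have h := one_ok
    simp only [List.all_eq_true, List.mem_range, beq_iff_eq] at h
    rw [Finset.prod_eq_single m (fun t _ ht => by rw [h _ m.isLt _ t.isLt, if_neg (fun e => ht (Fin.ext e.symm)), zpow_zero])
      (fun h' => absurd (Finset.mem_univ m) h'), h _ m.isLt _ m.isLt, if_pos rfl, zpow_one]
    rfl
  | cons i ω ih =>
    obtain ⟨k, hk, hc⟩ := ih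
    have hok := okAt_all hk
    simp only [okAt, Bool.and_eq_true, List.all_eq_true, List.mem_range, decide_eq_true_eq, beq_iff_eq] at hok
    obtain ⟨hn, he⟩ := hok.1 i.val i.isLt
    refine ⟨nbr k i.val, hn, fun c m => ?_⟩
    have hcart := cart_ok
    simp only [List.all_eq_true, List.mem_range, beq_iff_eq] at hcart
    show reflT i (wordT ω c) m = _
    rw [reflT, Pi.mul_apply]
    by_cases hm : m = i
    · have hsum : ∀ t : Fin 4, c t ^ dec (mat (nbr k i.val)) m t = c t ^ dec (mat k) m t *
          (∏ u : Fin 4, (c t ^ dec (mat k) u t) ^ chevF4.cartan u.val (chevF4.simple i.val))⁻¹ := fun t => by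
        rw [he _ m.isLt _ t.isLt, newEnt, if_pos (congrArg Fin.val hm), zpow_sub, zpow_add, zpow_add, zpow_add,
          Fin.prod_univ_four, hm]
        simp only [← zpow_mul, hcart _ i.isLt _ (show (0 : ℕ) < 4 by norm_num), hcart _ i.isLt _ (show (1 : ℕ) < 4 by norm_num),
          hcart _ i.isLt _ (show (2 : ℕ) < 4 by norm_num), hcart _ i.isLt _ (show (3 : ℕ) < 4 by norm_num)]
        simp [mul_comm]
      refine Eq.trans ?_ (Finset.prod_congr rfl fun t _ => (hsum t).symm)
      rw [Finset.prod_mul_distrib, ← hc c m, Finset.prod_inv_distrib]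
      congr 1
      subst hm
      rw [Pi.mulSingle_eq_same, inv_inj, torChar, Finset.prod_comm]
      refine Finset.prod_congr rfl fun u _ => ?_
      rw [hc c u, ← Finset.prod_zpow]
    · rw [Pi.mulSingle_eq_of_ne hm, mul_one, hc c m]
      exact Finset.prod_congr rfl fun t _ => by
        rw [he _ m.isLt _ t.isLt, newEnt, if_neg (fun e => hm (Fin.ext e))]

theorem det4_eq (M : Matrix (Fin 4) (Fin 4) ℤ) (a : ℕ → ℕ → ℤ) (h : ∀ m k : Fin 4, M m k = a m k) :
    M.det = det4 a := by
  have e : M = Matrix.of fun m k : Fin 4 => a m k := Matrix.ext h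
  rw [e, det4, Matrix.det_succ_row_zero]
  simp [Fin.sum_univ_succ, Matrix.det_fin_three, Fin.succAbove]
  ring

theorem coord_eq_one {G : Type*} [CommGroup G] (M : Matrix (Fin 4) (Fin 4) ℤ) (c : Fin 4 → G)
    (h : ∀ m, ∏ t, c t ^ M m t = 1) (j : Fin 4) : c j ^ M.det = 1 := by
  have h1 : ∏ t, c t ^ ((M.adjugate * M) j t) = 1 := by
    calc ∏ t, c t ^ ((M.adjugate * M) j t) = ∏ t, ∏ m, (c t ^ M m t) ^ M.adjugate j m :=
          Finset.prod_congr rfl fun t _ => by
            rw [Matrix.mul_apply]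
            have : ∀ S : Finset (Fin 4), c t ^ (∑ m ∈ S, M.adjugate j m * M m t) = ∏ m ∈ S, (c t ^ M m t) ^ M.adjugate j m := by
              intro S
              induction S using Finset.induction_on with
              | empty => simp
              | insert a S ha ih => rw [Finset.sum_insert ha, Finset.prod_insert ha, _root_.zpow_add, ih, mul_comm (M.adjugate j a), zpow_mul]
            exact this _
      _ = ∏ m, (∏ t, c t ^ M m t) ^ M.adjugate j m := by
            rw [Finset.prod_comm]
            exact Finset.prod_congr rfl fun m _ => Finset.prod_zpow _ _ _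
      _ = 1 := by simp [h]
  rw [Matrix.adjugate_mul] at h1
  rw [Finset.prod_eq_single j (fun t _ ht => by simp [Matrix.smul_apply, Matrix.one_apply_ne' ht])
    (fun h' => absurd (Finset.mem_univ j) h')] at h1
  simpa [Matrix.smul_apply] using h1

theorem no_five_seven [Finite K] {n x y : GL chevF4.Idx K} (hn : n ∈ chevF4.monomialSubgroup K)
    (hx : x ∈ chevF4.diagonalSubgroup K) (hy : y ∈ chevF4.diagonalSubgroup K) (h5 : x ^ 5 = 1) (h7 : y ^ 7 = 1)
    (hnx : n * x * n⁻¹ = x ^ 2) (hny : n * y * n⁻¹ = y ^ 3) : x = 1 ∨ y = 1 := by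
  classical
  have hinj := torusInj_of_cert (F := K) factsF4 kerCertF4
  obtain ⟨a, ha, w, rfl⟩ := (factsF4.mem_monomial (F := K)).1 hn
  obtain ⟨ω, hω⟩ := factsF4.refSys.exists_word w
  obtain ⟨a', ha', he⟩ := (factsF4.tsys K).nw_eq hω
  obtain ⟨k, hk, hmat⟩ := exists_mat (K := K) ω
  have hok := okAt_all hk
  simp only [okAt, Bool.and_eq_true, Bool.or_eq_true, bne_iff_ne, ne_eq] at hok
  have key : ∀ (z : GL chevF4.Idx K) (r l : ℕ), Nat.Prime r → z ∈ chevF4.diagonalSubgroup K → z ^ r = 1 →
      a * (factsF4.tsys K).nW w * z * (a * (factsF4.tsys K).nW w)⁻¹ = z ^ l →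
      det4 (shift (mat k) l) % (r : ℤ) ≠ 0 → z = 1 := by
    intro z r l hr hz hzr hzl hdet
    rw [← factsF4.tsys_H] at hz
    obtain ⟨c, rfl⟩ := ChevInvol.exists_torus factsF4 hz
    have hw : (factsF4.tsys K).nw ω * torus chevF4 K c * ((factsF4.tsys K).nw ω)⁻¹ = torus chevF4 K (c ^ l) := by
      have hH : ∀ b ∈ (factsF4.tsys K).H, b * torus chevF4 K (c ^ l) * b⁻¹ = torus chevF4 K (c ^ l) := fun b hb => by
        obtain ⟨d, rfl⟩ := ChevInvol.exists_torus factsF4 hb
        rw [← map_inv, ← map_mul, ← map_mul, mul_inv_cancel_comm]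
      rw [map_pow, ← hzl] at hH
      rw [map_pow, ← hzl]
      have e2 := hH (a' * a⁻¹) (mul_mem ha' (inv_mem ha))
      rw [he]
      refine Eq.trans ?_ e2
      group
    rw [nw_conj] at hw
    have hcl : wordT ω c = c ^ l := by
      refine mul_inv_eq_one.1 (hinj _ ?_)
      rw [map_mul, map_inv, hw, mul_inv_cancel]
    have hcr : ∀ j, c j ^ (r : ℤ) = 1 := fun j => by
      have := congrFun (hinj _ ((map_pow _ c r).trans hzr)) j
      simpa using this
    let c4 : Fin 4 → Kˣ := c
    let M : Matrix (Fin 4) (Fin 4) ℤ := Matrix.of fun m t => shift (mat k) l m t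
    have hM : ∀ m : Fin 4, ∏ t : Fin 4, c4 t ^ M m t = 1 := by
      intro m
      show ∏ t : Fin chevF4.rank, c t ^ shift (mat k) l m.val t.val = 1
      have h1 : ∀ t : Fin chevF4.rank, c t ^ shift (mat k) l m.val t.val = c t ^ dec (mat k) m.val t.val *
          (if t = (m : Fin chevF4.rank) then c t ^ (l : ℤ) else 1)⁻¹ := fun t => by
        simp only [shift]
        by_cases htm : t = m
        · rw [if_pos (congrArg Fin.val htm.symm), if_pos htm, _root_.zpow_sub]
        · rw [if_neg (fun e => htm (Fin.ext e.symm)), if_neg htm, sub_zero, inv_one, mul_one]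
      rw [Finset.prod_congr rfl fun t _ => h1 t, Finset.prod_mul_distrib, ← hmat c (m : Fin chevF4.rank), hcl, Finset.prod_inv_distrib]
      rw [mul_inv_eq_one]
      simp only [zpow_natCast, Pi.pow_apply]
      refine (Eq.trans ?_ (Finset.prod_eq_single (m : Fin chevF4.rank) (fun x _ hx => ?_) fun hx => ?_).symm)
      · exact (if_pos rfl).symm
      · exact if_neg hx
      · exact absurd (Finset.mem_univ _) hx
    have hd : M.det = det4 (shift (mat k) l) := det4_eq M _ fun m t => rfl
    rw [show c = 1 from funext fun j => ?_, map_one]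
    obtain ⟨u, v, huv⟩ : ∃ u v : ℤ, u * M.det + v * (r : ℤ) = 1 := by
      have hco : IsCoprime (M.det) (r : ℤ) := by
        rw [isCoprime_comm, (Nat.prime_iff_prime_int.1 hr).coprime_iff_not_dvd, hd]
        exact fun h => hdet (Int.emod_eq_zero_of_dvd h)
      exact hco
    calc c j = c j ^ (u * M.det + v * (r : ℤ)) := by rw [huv, zpow_one]
      _ = 1 := by
        rw [_root_.zpow_add, mul_comm u, mul_comm v, zpow_mul, zpow_mul, coord_eq_one M c4 hM j, hcr j, one_zpow, one_zpow, mul_one]
  rcases hok.2 with h | h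
  · exact Or.inl (key x 5 2 (by norm_num) hx h5 hnx (by simpa using h))
  · exact Or.inr (key y 7 3 (by norm_num) hy h7 hny (by simpa using h))

end Cfsg.Agent.Small.AltSec.F4W
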