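import Cfsg.Agent.Lib.Small.AltSec.EigenLift
import Cfsg.Agent.Lib.Small.AltSec.F4Weyl
import Cfsg.Agent.Lib.Lie.GroupCard
import Cfsg.Agent.Lib.Lie.WeylF4
import Cfsg.Agent.Lib.Lie.FieldFix
import Cfsg.Agent.Lib.Small.ChevInvol.Cent

/-!
Alternating sections of the groups of type F4.
-/

set_option autoImplicit false
set_option maxRecDepth 4000
set_option linter.unusedSectionVars false

namespace Cfsg.Agent.Small.AltSec.F4A

open Cfsg.Lie Cfsg.Agent.Lie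
open scoped MatrixGroups

variable {K : Type*} [Field K] [Fintype K]

theorem card_weyl : Nat.card factsF4.weyl = 1152 := by
  rw [factsF4.card_weyl, lenSumF4]
  simp

/-- The torus inside the group. -/
def T (K : Type*) [Field K] : Subgroup ↥(chevF4.group K) :=
  (chevF4.diagonalSubgroup K).subgroupOf (chevF4.group K)

theorem mem_T {y : ↥(chevF4.group K)} : y ∈ T K ↔ (y : GL chevF4.Idx K) ∈ chevF4.diagonalSubgroup K :=
  Subgroup.mem_subgroupOf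

theorem T_comm {a b : ↥(chevF4.group K)} (ha : a ∈ T K) (hb : b ∈ T K) : a * b = b * a :=
  Subtype.ext (ChevInvol.H_comm factsF4 (by rw [factsF4.tsys_H]; exact mem_T.1 ha)
    (by rw [factsF4.tsys_H]; exact mem_T.1 hb))

theorem index_T {r : ℕ} (hr : r.Prime) (hQ : Fintype.card K % r = 1) (hW : ¬ r ∣ 1152) : ¬ r ∣ (T K).index := by
  set Q := Fintype.card K with hQdef
  have h := (T K).card_mul_index
  have hle : chevF4.diagonalSubgroup K ≤ chevF4.group K := fun x hx =>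
    factsF4.monomial_le_group (by rw [← factsF4.tsys_N]; exact (factsF4.tsys K).H_le_N (by rwa [factsF4.tsys_H]))
  have hd : Nat.card (chevF4.diagonalSubgroup K) = (Q - 1) ^ 4 := by
    have := factsF4.card_diagonal (F := K) kerCertF4
    simpa [show chevF4.rank = 4 from rfl, ← hQdef] using this
  have hg := factsF4.card_group (F := K) (q := Q) rfl kerCertF4 [2, 6, 8, 12] rfl lenSumF4
  simp only [Finset.univ_eq_empty, Finset.prod_empty, one_mul] at hg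
  rw [T, Nat.card_congr (Subgroup.subgroupOfEquivOfLe hle).toEquiv, hd, hg] at h
  have hQ2 : 2 ≤ Q := Fintype.one_lt_card
  have hgeo : ∀ e : ℕ, Q ^ e - 1 = (Q - 1) * ∑ i ∈ Finset.range e, Q ^ i := by
    intro e
    obtain ⟨c, hc⟩ : ∃ c, Q = c + 1 := ⟨Q - 1, by omega⟩
    rw [hc, Nat.add_sub_cancel]
    have := geom_sum_mul_of_one_le (show 1 ≤ c + 1 by omega) e
    rw [Nat.add_sub_cancel] at this
    rw [mul_comm, this]
  intro hdvd
  apply hW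
  have h1152 : ((1152 : ℕ) : ZMod r) = 0 := by
    have hI : ((T K).index : ZMod r) = 0 := (ZMod.natCast_eq_zero_iff _ r).2 hdvd
    have hq1 : (Q : ZMod r) = 1 := by
      rw [← ZMod.natCast_mod, hQ, Nat.cast_one]
    have hI2 : (T K).index = Q ^ 24 * ((∑ i ∈ Finset.range 2, Q ^ i) * (∑ i ∈ Finset.range 6, Q ^ i) *
        (∑ i ∈ Finset.range 8, Q ^ i) * (∑ i ∈ Finset.range 12, Q ^ i)) := by
      refine Nat.eq_of_mul_eq_mul_left (pow_pos (show 0 < Q - 1 by omega) 4) (h.trans ?_)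
      simp only [List.map_cons, List.map_nil, List.prod_cons, List.prod_nil, Finset.univ_eq_empty, Finset.prod_empty,
        show chevF4.nroots / 2 = 24 from rfl, hgeo, mul_one]
      ring
    rw [hI2] at hI
    push_cast at hI
    simp only [hq1, one_pow, Finset.sum_const, Finset.card_range, nsmul_eq_mul, mul_one, one_mul] at hI
    rw [← hI]
    norm_num
  exact (ZMod.natCast_eq_zero_iff _ r).1 h1152

/-- One monomial element realises the fusion of g on the torus. -/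
theorem fusion (g : ↥(chevF4.group K)) : ∃ n : ↥(chevF4.group K),
    (n : GL chevF4.Idx K) ∈ chevF4.monomialSubgroup K ∧ n ^ 1152 ∈ T K ∧
      ∀ x ∈ T K, g * x * g⁻¹ ∈ T K → n * x * n⁻¹ = g * x * g⁻¹ := by
  obtain ⟨b, hb, w, u, hu, hg⟩ := factsF4.mem_bnu g.2
  obtain ⟨u0, hu0, a, ha, rfl⟩ := (factsF4.tsys K).mem_B.1 hb
  have hN : a * (factsF4.tsys K).nW w ∈ chevF4.monomialSubgroup K := by
    rw [← factsF4.tsys_N]; exact mul_mem ((factsF4.tsys K).H_le_N ha) ((factsF4.tsys K).nW_mem_N w)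
  refine ⟨⟨_, factsF4.monomial_le_group hN⟩, hN, ?_, ?_⟩
  · have h1 : (⟨_, hN⟩ : ↥(chevF4.monomialSubgroup K)) ^ 1152 ∈ (factsF4.wHom K).ker := by
      rw [MonoidHom.mem_ker, map_pow, ← card_weyl, pow_card_eq_one']
    rw [factsF4.wHom_ker, Subgroup.mem_subgroupOf, SubgroupClass.coe_pow] at h1
    rw [mem_T, SubgroupClass.coe_pow]
    exact h1
  intro x hx hgx
  refine Subtype.ext ?_
  show a * (factsF4.tsys K).nW w * (x : GL chevF4.Idx K) * (a * (factsF4.tsys K).nW w)⁻¹ =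
    (g : GL chevF4.Idx K) * x * (g : GL chevF4.Idx K)⁻¹
  have h1 : (x : GL chevF4.Idx K) ∈ (factsF4.tsys K).H := by rw [factsF4.tsys_H]; exact mem_T.1 hx
  have h2 : (g : GL chevF4.Idx K) * x * (g : GL chevF4.Idx K)⁻¹ ∈ (factsF4.tsys K).H := by
    rw [factsF4.tsys_H]; exact mem_T.1 hgx
  rw [hg] at h2 ⊢
  generalize hx' : (x : GL chevF4.Idx K) = h₁ at h1 h2 ⊢
  generalize hh2 : u0 * a * (factsF4.tsys K).nW w * u * h₁ * (u0 * a * (factsF4.tsys K).nW w * u)⁻¹ = h₂ at h2 ⊢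
  set n := (factsF4.tsys K).nW w with hn
  have hk : n * h₁ * n⁻¹ ∈ (factsF4.tsys K).H := (factsF4.tsys K).nW_H h1
  have hu' : h₁⁻¹ * u * h₁ ∈ (factsF4.tsys K).US (TorusSys.invList w) := by
    have h := (factsF4.tsys K).H_conj_US (inv_mem h1)
      (fun r hr => ((TorusSys.closed_invList w).mem_pos r hr).2) hu
    rw [inv_inv] at h
    exact h
  have heq : u0 * a * (n * h₁ * n⁻¹) * n * (h₁⁻¹ * u * h₁) = h₂ * (u0 * a) * n * u := by
    rw [← hh2]; group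
  have hb2 : u0 * a * (n * h₁ * n⁻¹) ∈ (factsF4.tsys K).B := mul_mem hb ((factsF4.tsys K).H_le_B hk)
  have h4 := (factsF4.bruhat_unique hb2 (mul_mem ((factsF4.tsys K).H_le_B h2) hb) hu' hu heq).2.1
  have h5 : (h₂ * u0 * h₂⁻¹)⁻¹ * u0 ∈ (factsF4.tsys K).U :=
    mul_mem (inv_mem ((factsF4.tsys K).H_conj_US h2 TorusSys.posL_lt hu0)) hu0
  have h6 : (h₂ * u0 * h₂⁻¹)⁻¹ * u0 = h₂ * a * (a * (n * h₁ * n⁻¹))⁻¹ := by
    calc (h₂ * u0 * h₂⁻¹)⁻¹ * u0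
        = (h₂ * u0 * h₂⁻¹)⁻¹ * (u0 * a * (n * h₁ * n⁻¹)) * (a * (n * h₁ * n⁻¹))⁻¹ := by group
      _ = _ := by rw [h4]; group
  have h7 := factsF4.U_inter_H h5 (h6 ▸ mul_mem (mul_mem h2 ha) (inv_mem (mul_mem ha hk)))
  rw [h6] at h7
  calc a * n * h₁ * (a * n)⁻¹ = a * (n * h₁ * n⁻¹) * a⁻¹ := by group
    _ = h₂ * a * a⁻¹ := by rw [mul_inv_eq_one.1 h7]
    _ = h₂ := mul_inv_cancel_right _ _

theorem comm_of_into {P : Subgroup ↥(chevF4.group K)} {c : ↥(chevF4.group K)} (hc : ∀ y ∈ P, c * y * c⁻¹ ∈ T K)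
    {a b : ↥(chevF4.group K)} (ha : a ∈ P) (hb : b ∈ P) : a * b = b * a := by
  have h := T_comm (hc a ha) (hc b hb)
  rw [show c * a * c⁻¹ * (c * b * c⁻¹) = c * (a * b) * c⁻¹ by group,
    show c * b * c⁻¹ * (c * a * c⁻¹) = c * (b * a) * c⁻¹ by group] at h
  exact mul_left_cancel (mul_right_cancel h)

/-- The fusion of t on P after conjugation into the torus. -/
theorem agree {P : Subgroup ↥(chevF4.group K)} {c t n : ↥(chevF4.group K)} (hc : ∀ y ∈ P, c * y * c⁻¹ ∈ T K)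
    (ht : ∀ y ∈ P, t * y * t⁻¹ ∈ P)
    (hn : ∀ x ∈ T K, c * t * c⁻¹ * x * (c * t * c⁻¹)⁻¹ ∈ T K → n * x * n⁻¹ = c * t * c⁻¹ * x * (c * t * c⁻¹)⁻¹)
    {y : ↥(chevF4.group K)} (hy : y ∈ P) : c * (t * y * t⁻¹) * c⁻¹ = n * (c * y * c⁻¹) * n⁻¹ := by
  have e : c * t * c⁻¹ * (c * y * c⁻¹) * (c * t * c⁻¹)⁻¹ = c * (t * y * t⁻¹) * c⁻¹ := by group
  rw [hn _ (hc y hy) (by rw [e]; exact hc _ (ht y hy)), e]

theorem pow_trivial {P : Subgroup ↥(chevF4.group K)} {c t : ↥(chevF4.group K)} (hc : ∀ y ∈ P, c * y * c⁻¹ ∈ T K)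
    (ht : ∀ y ∈ P, t * y * t⁻¹ ∈ P) : ∀ y ∈ P, t ^ 1152 * y * (t ^ 1152)⁻¹ = y := by
  obtain ⟨n, -, hn1, hn⟩ := fusion (c * t * c⁻¹)
  intro y hy
  obtain ⟨-, h⟩ := agree_pow ht (fun z hz => agree hc ht hn hz) 1152 y hy
  rw [T_comm hn1 (hc y hy), mul_inv_cancel_right] at h
  exact mul_left_cancel (mul_right_cancel h)

/-- An eigenvector in the torus for the monomial element. -/
theorem eigen {A : Type*} [Group A] {r i : ℕ} [Fact r.Prime] (hW : ¬ r ∣ 1152) (hi : i ^ 1152 % r = 1)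
    {H : Subgroup ↥(chevF4.group K)} (π : ↥H →* A) {S : Subgroup ↥H} (hS : IsPGroup r ↥S) {σ : A} (hs : σ ^ r = 1)
    (hs1 : σ ≠ 1) (hSX : ∀ y ∈ S, π y ∈ Subgroup.zpowers σ) (ha : ∃ a ∈ S, π a = σ) {t : ↥H}
    (ht : ∀ y ∈ S, t * y * t⁻¹ ∈ S) (htσ : π t * σ * (π t)⁻¹ = σ ^ i) {c n : ↥(chevF4.group K)}
    (hc : ∀ y ∈ S, c * (y : ↥(chevF4.group K)) * c⁻¹ ∈ T K)
    (hn : ∀ x ∈ T K, c * (t : ↥(chevF4.group K)) * c⁻¹ * x * (c * (t : ↥(chevF4.group K)) * c⁻¹)⁻¹ ∈ T K →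
      n * x * n⁻¹ = c * (t : ↥(chevF4.group K)) * c⁻¹ * x * (c * (t : ↥(chevF4.group K)) * c⁻¹)⁻¹) :
    ∃ x ∈ T K, x ≠ 1 ∧ x ^ r = 1 ∧ n * x * n⁻¹ = x ^ i := by
  set P := S.map H.subtype with hP
  have hcP : ∀ y ∈ P, c * y * c⁻¹ ∈ T K := by rintro _ ⟨y, hy, rfl⟩; exact hc y hy
  have htP : ∀ y ∈ P, (t : ↥(chevF4.group K)) * y * (t : ↥(chevF4.group K))⁻¹ ∈ P := by
    rintro _ ⟨y, hy, rfl⟩; exact ⟨_, ht y hy, rfl⟩
  have hcm : ∀ a b : ↥S, a * b = b * a := fun a b => Subtype.ext (Subtype.ext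
    (comm_of_into hcP (Subgroup.mem_map_of_mem H.subtype a.2) (Subgroup.mem_map_of_mem H.subtype b.2)))
  letI : CommGroup ↥S := { (inferInstance : Group ↥S) with mul_comm := hcm }
  let f : ↥S →* ↥S := MonoidHom.mk' (fun y => ⟨t * y * t⁻¹, ht _ y.2⟩) fun a b => Subtype.ext (by
    show t * (a.1 * b.1) * t⁻¹ = t * a.1 * t⁻¹ * (t * b.1 * t⁻¹); group)
  have hit : ∀ (k : ℕ) (y : ↥S), ((((fun z => f z)^[k] y : ↥S) : ↥H) : ↥(chevF4.group K)) =
      (t : ↥(chevF4.group K)) ^ k * y * ((t : ↥(chevF4.group K)) ^ k)⁻¹ := by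
    intro k
    induction k with
    | zero => simp
    | succ k ih =>
      intro y
      rw [Function.iterate_succ_apply', pow_succ']
      show (t : ↥(chevF4.group K)) * _ * (t : ↥(chevF4.group K))⁻¹ = _
      rw [ih]; group
  have hfN : ∀ y : ↥S, (fun z => f z)^[1152] y = y := fun y => Subtype.ext (Subtype.ext (by
    rw [hit]; exact pow_trivial hcP htP _ (Subgroup.mem_map_of_mem H.subtype y.2)))
  have hφ : ∀ y : ↥S, (π.comp S.subtype) (f y) = (π.comp S.subtype) y ^ i := fun y => by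
    show π (t * y * t⁻¹) = π y ^ i
    obtain ⟨j, hj⟩ := Subgroup.mem_zpowers_iff.1 (hSX y y.2)
    rw [map_mul, map_mul, map_inv, ← hj, ← conj_zpow, htσ, ← zpow_natCast, ← zpow_natCast, ← zpow_mul, ← zpow_mul,
      mul_comm]
  obtain ⟨a, haS, haσ⟩ := ha
  obtain ⟨x, hx1, hxr, hfx⟩ := eigen_lift hS f hfN hi hW (π.comp S.subtype) hφ hs hs1 ⟨a, haS⟩ haσ
  have hxP : ((x : ↥H) : ↥(chevF4.group K)) ∈ P := Subgroup.mem_map_of_mem H.subtype x.2
  refine ⟨c * x * c⁻¹, hcP _ hxP, fun h => hx1 (Subtype.ext (Subtype.ext (conj_eq_one_iff.1 h))), ?_, ?_⟩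
  · rw [conj_pow, show ((x : ↥H) : ↥(chevF4.group K)) ^ r = 1 by
      rw [← SubgroupClass.coe_pow, ← SubgroupClass.coe_pow, hxr]; rfl]
    group
  · rw [← agree hcP htP hn hxP]
    have e : (t : ↥(chevF4.group K)) * x * (t : ↥(chevF4.group K))⁻¹ = ((x : ↥H) : ↥(chevF4.group K)) ^ i := by
      have := congrArg (fun z : ↥S => ((z : ↥H) : ↥(chevF4.group K))) hfx
      simpa [f] using this
    rw [e, conj_pow]

theorem no_eleven (hQ : Fintype.card K % 11 = 1) {A : Type*} [Group A] (H : Subgroup ↥(chevF4.group K))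
    (π : ↥H →* A) (hπ : Function.Surjective π) {σ τ : A} (hs : σ ^ 11 = 1) (hs1 : σ ≠ 1)
    (hts : τ * σ * τ⁻¹ = σ ^ 3) : False := by
  haveI : Fact (Nat.Prime 11) := ⟨by norm_num⟩
  obtain ⟨t0, ht0⟩ := hπ τ
  set X := (Subgroup.zpowers σ).comap π with hX
  have hσX : σ ∈ X.map π := by rw [hX, Subgroup.map_comap_eq_self_of_surjective hπ]; exact Subgroup.mem_zpowers σ
  obtain ⟨S, hSX, hS, ha, hnorm⟩ := sylow_over π X (fun x hx => hx) hσX hs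
  obtain ⟨l, hl, hlt⟩ := hnorm t0 (fun y hy => by
    obtain ⟨j, hj⟩ := Subgroup.mem_zpowers_iff.1 (show π y ∈ Subgroup.zpowers σ from hy)
    show π (t0 * y * t0⁻¹) ∈ Subgroup.zpowers σ
    rw [map_mul, map_mul, map_inv, ht0, ← hj, ← conj_zpow, hts, ← zpow_natCast, ← zpow_mul]
    exact Subgroup.zpow_mem_zpowers _ _)
  obtain ⟨c, -, hc⟩ := conj_into (r := 11) (le_top : T K ≤ ⊤) (index_T (by norm_num) hQ (by norm_num))
    (le_top : S.map H.subtype ≤ ⊤) (hS.map _)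
  obtain ⟨n, -, hn1, hn⟩ := fusion (c * ((l * t0 : ↥H) : ↥(chevF4.group K)) * c⁻¹)
  obtain ⟨j, hj⟩ := Subgroup.mem_zpowers_iff.1 (show π l ∈ Subgroup.zpowers σ from hl)
  have htσ : π (l * t0) * σ * (π (l * t0))⁻¹ = σ ^ 3 := by
    rw [map_mul, ht0, ← hj, mul_inv_rev, show σ ^ j * τ * σ * (τ⁻¹ * (σ ^ j)⁻¹) = σ ^ j * (τ * σ * τ⁻¹) * (σ ^ j)⁻¹ by group,
      hts, (((Commute.refl σ).zpow_left j).pow_right 3).eq, mul_inv_cancel_right]
  obtain ⟨a, haS, haσ⟩ := ha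
  have hfix := pow_trivial (t := ((l * t0 : ↥H) : ↥(chevF4.group K))) hc
    (by rintro _ ⟨y, hy, rfl⟩; exact ⟨_, hlt y hy, rfl⟩) (a : ↥(chevF4.group K))
    (Subgroup.mem_map_of_mem H.subtype haS)
  have hfix' : (l * t0) ^ 1152 * a * ((l * t0) ^ 1152)⁻¹ = a := Subtype.ext hfix
  have key : ∀ k : ℕ, (π (l * t0)) ^ k * σ * ((π (l * t0)) ^ k)⁻¹ = σ ^ 3 ^ k := by
    intro k
    induction k with
    | zero => simp
    | succ k ih =>
      rw [pow_succ' (π (l * t0)), show π (l * t0) * (π (l * t0)) ^ k * σ * (π (l * t0) * (π (l * t0)) ^ k)⁻¹ =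
        π (l * t0) * ((π (l * t0)) ^ k * σ * ((π (l * t0)) ^ k)⁻¹) * (π (l * t0))⁻¹ by group, ih,
        ← conj_pow, htσ, ← pow_mul, pow_succ']
  have h := congrArg π hfix'
  rw [map_mul, map_mul, map_inv, map_pow, haσ, key 1152, pow_eq_pow_mod (3 ^ 1152) hs] at h
  have h9 : 3 ^ 1152 % 11 = 9 := by decide +kernel
  rw [h9] at h
  apply hs1
  have h8 : σ ^ 8 = 1 := mul_left_cancel (a := σ) (by rw [mul_one, ← pow_succ']; exact h)
  calc σ = σ * (σ ^ 8) ^ 4 := by rw [h8, one_pow, mul_one]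
    _ = (σ ^ 11) ^ 3 := by rw [← pow_mul, ← pow_mul, ← pow_succ']
    _ = 1 := by rw [hs, one_pow]

theorem no_thirtyfive (hQ5 : Fintype.card K % 5 = 1) (hQ7 : Fintype.card K % 7 = 1) {A : Type*} [Group A]
    (H : Subgroup ↥(chevF4.group K)) (π : ↥H →* A) (hπ : Function.Surjective π) {σ ρ τ : A} (hs : σ ^ 5 = 1)
    (hs1 : σ ≠ 1) (hr : ρ ^ 7 = 1) (hr1 : ρ ≠ 1) (hsr : σ * ρ = ρ * σ) (hts : τ * σ * τ⁻¹ = σ ^ 2)
    (htr : τ * ρ * τ⁻¹ = ρ ^ 3) : False := by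
  haveI : Fact (Nat.Prime 7) := ⟨by norm_num⟩
  haveI : Fact (Nat.Prime 5) := ⟨by norm_num⟩
  set X := (Subgroup.zpowers ρ).comap π with hX
  have hρX : ρ ∈ X.map π := by rw [hX, Subgroup.map_comap_eq_self_of_surjective hπ]; exact Subgroup.mem_zpowers ρ
  obtain ⟨S, hSX, hS, haS, hnorm⟩ := sylow_over π X (fun x hx => hx) hρX hr
  have hnormX : ∀ (u : ↥H) (i : ℕ), π u * ρ * (π u)⁻¹ = ρ ^ i → ∀ y ∈ X, u * y * u⁻¹ ∈ X := by
    intro u i hu y hy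
    obtain ⟨j, hj⟩ := Subgroup.mem_zpowers_iff.1 (show π y ∈ Subgroup.zpowers ρ from hy)
    show π (u * y * u⁻¹) ∈ Subgroup.zpowers ρ
    rw [map_mul, map_mul, map_inv, ← hj, ← conj_zpow, hu, ← zpow_natCast, ← zpow_mul]
    exact Subgroup.zpow_mem_zpowers _ _
  obtain ⟨t0, ht0⟩ := hπ τ
  obtain ⟨s0, hs0⟩ := hπ σ
  obtain ⟨l1, hl1, ht1⟩ := hnorm t0 (hnormX t0 3 (by rw [ht0, htr]))
  obtain ⟨l2, hl2, hs1n⟩ := hnorm s0 (hnormX s0 1 (by rw [hs0, hsr, mul_inv_cancel_right, pow_one]))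
  obtain ⟨m, hm⟩ := Subgroup.mem_zpowers_iff.1 (show π l2 ∈ Subgroup.zpowers ρ from hl2)
  obtain ⟨j, hj⟩ := Subgroup.mem_zpowers_iff.1 (show π l1 ∈ Subgroup.zpowers ρ from hl1)
  obtain ⟨c1, -, hc1⟩ := conj_into (r := 7) (le_top : T K ≤ ⊤) (index_T (by norm_num) hQ7 (by norm_num))
    (le_top : S.map H.subtype ≤ ⊤) (hS.map _)
  -- an element of 5-power order over a generator of the group of σ
  obtain ⟨e, k, he, hek⟩ := exists_rpart 5 (l2 * s0)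
  set s : ↥H := (l2 * s0) ^ e with hsdef
  have hsn : ∀ y ∈ S, s * y * s⁻¹ ∈ S := by
    have : ∀ i : ℕ, ∀ y ∈ S, (l2 * s0) ^ i * y * ((l2 * s0) ^ i)⁻¹ ∈ S := by
      intro i
      induction i with
      | zero => simp
      | succ i ih =>
        intro y hy
        rw [pow_succ', mul_inv_rev, show l2 * s0 * (l2 * s0) ^ i * y * (((l2 * s0) ^ i)⁻¹ * (l2 * s0)⁻¹) =
          l2 * s0 * ((l2 * s0) ^ i * y * ((l2 * s0) ^ i)⁻¹) * (l2 * s0)⁻¹ by simp only [mul_assoc]]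
        exact hs1n _ (ih y hy)
    exact this e
  have hcm : Commute (ρ ^ m) σ := (Commute.zpow_left (show Commute ρ σ from hsr.symm) m)
  have hπs : π s = σ ^ e := by
    have h1 : π s = (ρ ^ m) ^ e * σ ^ e := by rw [hsdef, map_pow, map_mul, ← hm, hs0, hcm.mul_pow]
    have h2 : ((ρ ^ m) ^ e) ^ 5 ^ (k + 1) = 1 := by
      have h3 : (π s) ^ 5 ^ (k + 1) = 1 := by rw [pow_succ, pow_mul, ← map_pow, hek, map_one, one_pow]
      rw [h1, (hcm.pow_pow e e).mul_pow, pow_succ' 5 k, pow_mul (σ ^ e), ← pow_mul σ e 5, mul_comm e 5, pow_mul σ 5 e,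
        hs, one_pow, one_pow, mul_one, ← pow_succ' 5 k] at h3
      exact h3
    have h7 : ((ρ ^ m) ^ e) ^ 7 = 1 := by
      rw [← pow_mul, mul_comm, pow_mul, ← zpow_natCast (ρ ^ m), ← zpow_mul, mul_comm, zpow_mul, zpow_natCast, hr,
        one_zpow, one_pow]
    have hone : (ρ ^ m) ^ e = 1 := by
      refine orderOf_eq_one_iff.1 (Nat.eq_one_of_dvd_coprimes ?_ (orderOf_dvd_of_pow_eq_one h2)
        (orderOf_dvd_of_pow_eq_one h7))
      exact Nat.Coprime.pow_left _ (by norm_num)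
    rw [h1, hone, one_mul]
  -- it centralises S
  have hsS : ∀ y ∈ S, s * y = y * s := by
    intro y hy
    have hcS : ∀ y ∈ S.map H.subtype, c1 * y * c1⁻¹ ∈ T K := hc1
    have hsP : ∀ y ∈ S.map H.subtype, (s : ↥(chevF4.group K)) * y * (s : ↥(chevF4.group K))⁻¹ ∈ S.map H.subtype := by
      rintro _ ⟨y, hy, rfl⟩; exact ⟨_, hsn y hy, rfl⟩
    let C : Subgroup ↥H := Subgroup.centralizer {y}
    have h1 : s ^ 1152 ∈ C := by
      rw [Subgroup.mem_centralizer_singleton_iff, ← mul_inv_eq_iff_eq_mul]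
      exact Subtype.ext (by
        show ((s ^ 1152 * y * (s ^ 1152)⁻¹ : ↥H) : ↥(chevF4.group K)) = _
        rw [Subgroup.coe_mul, Subgroup.coe_mul, InvMemClass.coe_inv, SubgroupClass.coe_pow]
        exact pow_trivial hcS hsP _ (Subgroup.mem_map_of_mem H.subtype hy))
    have h2 : s ^ 5 ^ k ∈ C := by rw [hsdef, hek]; exact one_mem _
    have h3 : s ∈ C := by
      have hg := Nat.gcd_eq_gcd_ab 1152 (5 ^ k)
      rw [show Nat.gcd 1152 (5 ^ k) = 1 from Nat.Coprime.pow_right _ (by norm_num)] at hg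
      rw [← zpow_one s, show (1 : ℤ) = ((1 : ℕ) : ℤ) from rfl, hg, zpow_add, zpow_mul, zpow_mul, zpow_natCast,
        zpow_natCast]
      exact mul_mem (zpow_mem h1 _) (zpow_mem h2 _)
    exact Subgroup.mem_centralizer_singleton_iff.1 h3
  -- the preimage of the group of σ centralising S
  set X5 : Subgroup ↥H := (Subgroup.zpowers σ).comap π ⊓ Subgroup.centralizer (S : Set ↥H) with hX5
  have hsX : s ∈ X5 := ⟨by
    show π s ∈ Subgroup.zpowers σ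
    rw [hπs]; exact Subgroup.pow_mem _ (Subgroup.mem_zpowers σ) e, Subgroup.mem_centralizer_iff.2 fun y hy => (hsS y hy).symm⟩
  have hσX5 : σ ∈ X5.map π := by
    have hg := Nat.gcd_eq_gcd_ab e 5
    rw [show Nat.gcd e 5 = 1 from ((Nat.Prime.coprime_iff_not_dvd (by norm_num)).2 he).symm] at hg
    refine ⟨s ^ Nat.gcdA e 5, Subgroup.zpow_mem _ hsX _, ?_⟩
    rw [map_zpow, hπs]
    calc (σ ^ e) ^ Nat.gcdA e 5 = σ ^ ((e : ℤ) * Nat.gcdA e 5) * (σ ^ (5 : ℕ)) ^ Nat.gcdB e 5 := by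
          rw [hs, one_zpow, mul_one, zpow_mul, zpow_natCast]
      _ = σ ^ ((e : ℤ) * Nat.gcdA e 5 + (5 : ℕ) * Nat.gcdB e 5) := by
          rw [zpow_add, zpow_mul σ ((5 : ℕ) : ℤ), zpow_natCast]
      _ = σ := by rw [← hg, Nat.cast_one, zpow_one]
  obtain ⟨S5, hS5X, hS5, ha5, hnorm5⟩ := sylow_over π X5 (fun x hx => hx.1) hσX5 hs
  set t1 : ↥H := l1 * t0 with ht1def
  have hπt1 : π t1 = ρ ^ j * τ := by rw [ht1def, map_mul, ← hj, ht0]
  have ht1σ : π t1 * σ * (π t1)⁻¹ = σ ^ 2 := by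
    rw [hπt1, mul_inv_rev, show ρ ^ j * τ * σ * (τ⁻¹ * (ρ ^ j)⁻¹) = ρ ^ j * (τ * σ * τ⁻¹) * (ρ ^ j)⁻¹ by group,
      hts, ((Commute.zpow_left (show Commute ρ σ from hsr.symm) j).pow_right 2).eq, mul_inv_cancel_right]
  have ht1ρ : π t1 * ρ * (π t1)⁻¹ = ρ ^ 3 := by
    rw [hπt1, mul_inv_rev, show ρ ^ j * τ * ρ * (τ⁻¹ * (ρ ^ j)⁻¹) = ρ ^ j * (τ * ρ * τ⁻¹) * (ρ ^ j)⁻¹ by group,
      htr, (((Commute.refl ρ).zpow_left j).pow_right 3).eq, mul_inv_cancel_right]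
  have ht1inv : ∀ y ∈ S, t1⁻¹ * y * t1 ∈ S := by
    intro y hy
    obtain ⟨i, hi⟩ : ∃ i : ℕ, t1⁻¹ = t1 ^ i := by
      refine ⟨orderOf t1 - 1, inv_eq_of_mul_eq_one_right ?_⟩
      rw [← pow_succ', show orderOf t1 - 1 + 1 = orderOf t1 by have := orderOf_pos t1; omega, pow_orderOf_eq_one]
    have : ∀ i : ℕ, ∀ y ∈ S, t1 ^ i * y * (t1 ^ i)⁻¹ ∈ S := by
      intro i
      induction i with
      | zero => simp
      | succ i ih =>
        intro y hy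
        rw [pow_succ', show t1 * t1 ^ i * y * (t1 * t1 ^ i)⁻¹ = t1 * (t1 ^ i * y * (t1 ^ i)⁻¹) * t1⁻¹ by group]
        exact ht1 _ (ih y hy)
    have h := this i y hy
    rwa [← hi, inv_inv] at h
  obtain ⟨l3, hl3, ht2⟩ := hnorm5 t1 (fun y hy => ⟨by
      obtain ⟨i, hi⟩ := Subgroup.mem_zpowers_iff.1 (show π y ∈ Subgroup.zpowers σ from hy.1)
      show π (t1 * y * t1⁻¹) ∈ Subgroup.zpowers σ
      rw [map_mul, map_mul, map_inv, ← hi, ← conj_zpow, ht1σ, ← zpow_natCast, ← zpow_mul]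
      exact Subgroup.zpow_mem_zpowers _ _,
    Subgroup.mem_centralizer_iff.2 fun z hz => by
      have h := Subgroup.mem_centralizer_iff.1 hy.2 _ (ht1inv z hz)
      calc z * (t1 * y * t1⁻¹) = t1 * (t1⁻¹ * z * t1 * y) * t1⁻¹ := by group
        _ = t1 * (y * (t1⁻¹ * z * t1)) * t1⁻¹ := by rw [h]
        _ = t1 * y * t1⁻¹ * z := by group⟩)
  set t2 : ↥H := l3 * t1 with ht2def
  have ht2S : ∀ y ∈ S, t2 * y * t2⁻¹ ∈ S := fun y hy => by
    have h := Subgroup.mem_centralizer_iff.1 hl3.2 _ (ht1 y hy)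
    rw [ht2def, show l3 * t1 * y * (l3 * t1)⁻¹ = l3 * (t1 * y * t1⁻¹) * l3⁻¹ by group, ← h, mul_inv_cancel_right]
    exact ht1 y hy
  obtain ⟨b, hb⟩ := Subgroup.mem_zpowers_iff.1 (show π l3 ∈ Subgroup.zpowers σ from hl3.1)
  have ht2σ : π t2 * σ * (π t2)⁻¹ = σ ^ 2 := by
    rw [ht2def, map_mul, ← hb, mul_inv_rev, show σ ^ b * π t1 * σ * ((π t1)⁻¹ * (σ ^ b)⁻¹) =
      σ ^ b * (π t1 * σ * (π t1)⁻¹) * (σ ^ b)⁻¹ by group, ht1σ,
      (((Commute.refl σ).zpow_left b).pow_right 2).eq, mul_inv_cancel_right]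
  have ht2ρ : π t2 * ρ * (π t2)⁻¹ = ρ ^ 3 := by
    rw [ht2def, map_mul, ← hb, mul_inv_rev, show σ ^ b * π t1 * ρ * ((π t1)⁻¹ * (σ ^ b)⁻¹) =
      σ ^ b * (π t1 * ρ * (π t1)⁻¹) * (σ ^ b)⁻¹ by group, ht1ρ,
      ((Commute.zpow_left (show Commute σ ρ from hsr) b).pow_right 3).eq, mul_inv_cancel_right]
  -- both into the torus
  set R : Set ↥(chevF4.group K) := (fun y : ↥H => c1 * (y : ↥(chevF4.group K)) * c1⁻¹) '' (S : Set ↥H) with hR
  obtain ⟨c2, hc2, hc2T⟩ := conj_into (r := 5) (T := T K) (C := Subgroup.centralizer R)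
    (P := (S5.map H.subtype).map (MulAut.conj c1).toMonoidHom)
    (fun x hx => Subgroup.mem_centralizer_iff.2 (by
      rintro _ ⟨y, hy, rfl⟩; exact T_comm (hc1 _ (Subgroup.mem_map_of_mem H.subtype hy)) hx))
    (index_T (by norm_num) hQ5 (by norm_num))
    (by
      rintro _ ⟨_, ⟨z, hz, rfl⟩, rfl⟩
      refine Subgroup.mem_centralizer_iff.2 ?_
      rintro _ ⟨y, hy, rfl⟩
      have h : (y : ↥(chevF4.group K)) * (z : ↥(chevF4.group K)) = (z : ↥(chevF4.group K)) * y :=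
        congrArg Subtype.val (Subgroup.mem_centralizer_iff.1 (hS5X hz).2 y hy)
      show c1 * (y : ↥(chevF4.group K)) * c1⁻¹ * (c1 * (z : ↥(chevF4.group K)) * c1⁻¹) =
        c1 * (z : ↥(chevF4.group K)) * c1⁻¹ * (c1 * (y : ↥(chevF4.group K)) * c1⁻¹)
      rw [show c1 * (y : ↥(chevF4.group K)) * c1⁻¹ * (c1 * (z : ↥(chevF4.group K)) * c1⁻¹) =
        c1 * ((y : ↥(chevF4.group K)) * z) * c1⁻¹ by group, h]
      group)
    ((hS5.map _).map _)
  set c := c2 * c1 with hcdef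
  have hcS : ∀ y ∈ S, c * (y : ↥(chevF4.group K)) * c⁻¹ ∈ T K := fun y hy => by
    have h := Subgroup.mem_centralizer_iff.1 hc2 (c1 * (y : ↥(chevF4.group K)) * c1⁻¹) ⟨y, hy, rfl⟩
    rw [hcdef, show c2 * c1 * (y : ↥(chevF4.group K)) * (c2 * c1)⁻¹ = c2 * (c1 * y * c1⁻¹) * c2⁻¹ by group, ← h,
      mul_inv_cancel_right]
    exact hc1 _ (Subgroup.mem_map_of_mem H.subtype hy)
  have hcS5 : ∀ y ∈ S5, c * (y : ↥(chevF4.group K)) * c⁻¹ ∈ T K := fun y hy => by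
    rw [hcdef, show c2 * c1 * (y : ↥(chevF4.group K)) * (c2 * c1)⁻¹ = c2 * (c1 * y * c1⁻¹) * c2⁻¹ by group]
    exact hc2T _ ⟨_, ⟨y, hy, rfl⟩, rfl⟩
  obtain ⟨n, hnN, -, hn⟩ := fusion (c * (t2 : ↥(chevF4.group K)) * c⁻¹)
  obtain ⟨y7, hy7, hy71, hy7r, hny⟩ := eigen (r := 7) (i := 3) (by norm_num) (by decide +kernel)
    π hS hr hr1 (fun y hy => hSX hy) haS ht2S ht2ρ hcS hn
  obtain ⟨x5, hx5, hx51, hx5r, hnx⟩ := eigen (r := 5) (i := 2) (by norm_num) (by decide +kernel)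
    π hS5 hs hs1 (fun y hy => (hS5X hy).1) ha5 ht2 ht2σ hcS5 hn
  rcases F4W.no_five_seven hnN (mem_T.1 hx5) (mem_T.1 hy7) (congrArg Subtype.val hx5r) (congrArg Subtype.val hy7r)
    (congrArg Subtype.val hnx) (congrArg Subtype.val hny) with h | h
  · exact hx51 (Subtype.ext h)
  · exact hy71 (Subtype.ext h)

theorem eleven_five : ∃ σ τ : Equiv.Perm (Fin 11), Equiv.Perm.sign σ = 1 ∧ Equiv.Perm.sign τ = 1 ∧
    σ ^ 11 = 1 ∧ σ ≠ 1 ∧ τ * σ * τ⁻¹ = σ ^ 3 := by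
  refine ⟨c[0, 1, 2, 3, 4, 5, 6, 7, 8, 9, 10], c[1, 3, 9, 5, 4] * c[2, 6, 7, 10, 8], ?_⟩
  decide +kernel

theorem five_seven : ∃ σ ρ τ : Equiv.Perm (Fin 12), Equiv.Perm.sign σ = 1 ∧ Equiv.Perm.sign ρ = 1 ∧
    Equiv.Perm.sign τ = 1 ∧ σ ^ 5 = 1 ∧ σ ≠ 1 ∧ ρ ^ 7 = 1 ∧ ρ ≠ 1 ∧ σ * ρ = ρ * σ ∧
    τ * σ * τ⁻¹ = σ ^ 2 ∧ τ * ρ * τ⁻¹ = ρ ^ 3 := by
  refine ⟨c[0, 1, 2, 3, 4], c[5, 6, 7, 8, 9, 10, 11], c[1, 2, 4, 3] * c[6, 8, 7, 11, 9, 10], ?_⟩
  decide +kernel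

theorem alt_le_ten {r : ℕ} (hQ : Fintype.card K % 11 = 1) (H : Subgroup ↥(chevF4.group K))
    (π : ↥H →* ↥(alternatingGroup (Fin r))) (hπ : Function.Surjective π) : r ≤ 10 := by
  by_contra hc
  have hr : 11 ≤ r := by omega
  obtain ⟨σ, τ, h1, h2, h3, h4, h5⟩ := eleven_five
  let ι := Equiv.Perm.viaEmbeddingHom (Fin.castLEEmb hr)
  have hs : ∀ p, Equiv.Perm.sign (ι p) = Equiv.Perm.sign p := fun p => by
    show Equiv.Perm.sign (Equiv.Perm.viaEmbedding p _) = _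
    rw [Equiv.Perm.viaEmbedding, Equiv.Perm.sign_extendDomain]
  refine no_eleven hQ H π hπ (σ := ⟨ι σ, Equiv.Perm.mem_alternatingGroup.2 (by rw [hs, h1])⟩)
    (τ := ⟨ι τ, Equiv.Perm.mem_alternatingGroup.2 (by rw [hs, h2])⟩) (Subtype.ext ?_) (fun h => h4 ?_) (Subtype.ext ?_)
  · show ι σ ^ 11 = 1; rw [← map_pow, h3, map_one]
  · exact Equiv.Perm.viaEmbeddingHom_injective _ ((congrArg Subtype.val h).trans (map_one ι).symm)
  · show ι τ * ι σ * (ι τ)⁻¹ = ι σ ^ 3; rw [← map_inv, ← map_mul, ← map_mul, h5, map_pow]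

theorem alt_le_eleven {r : ℕ} (hQ5 : Fintype.card K % 5 = 1) (hQ7 : Fintype.card K % 7 = 1)
    (H : Subgroup ↥(chevF4.group K)) (π : ↥H →* ↥(alternatingGroup (Fin r))) (hπ : Function.Surjective π) :
    r ≤ 11 := by
  by_contra hc
  have hr : 12 ≤ r := by omega
  obtain ⟨σ, ρ, τ, h1, h2, h3, h4, h5, h6, h7, h8, h9, h10⟩ := five_seven
  let ι := Equiv.Perm.viaEmbeddingHom (Fin.castLEEmb hr)
  have hs : ∀ p, Equiv.Perm.sign (ι p) = Equiv.Perm.sign p := fun p => by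
    show Equiv.Perm.sign (Equiv.Perm.viaEmbedding p _) = _
    rw [Equiv.Perm.viaEmbedding, Equiv.Perm.sign_extendDomain]
  refine no_thirtyfive hQ5 hQ7 H π hπ (σ := ⟨ι σ, Equiv.Perm.mem_alternatingGroup.2 (by rw [hs, h1])⟩)
    (ρ := ⟨ι ρ, Equiv.Perm.mem_alternatingGroup.2 (by rw [hs, h2])⟩)
    (τ := ⟨ι τ, Equiv.Perm.mem_alternatingGroup.2 (by rw [hs, h3])⟩) (Subtype.ext ?_) (fun h => h5 ?_) (Subtype.ext ?_)
    (fun h => h7 ?_) (Subtype.ext ?_) (Subtype.ext ?_) (Subtype.ext ?_)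
  · show ι σ ^ 5 = 1; rw [← map_pow, h4, map_one]
  · exact Equiv.Perm.viaEmbeddingHom_injective _ ((congrArg Subtype.val h).trans (map_one ι).symm)
  · show ι ρ ^ 7 = 1; rw [← map_pow, h6, map_one]
  · exact Equiv.Perm.viaEmbeddingHom_injective _ ((congrArg Subtype.val h).trans (map_one ι).symm)
  · show ι σ * ι ρ = ι ρ * ι σ; rw [← map_mul, ← map_mul, h8]
  · show ι τ * ι σ * (ι τ)⁻¹ = ι σ ^ 2; rw [← map_inv, ← map_mul, ← map_mul, h9, map_pow]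
  · show ι τ * ι ρ * (ι τ)⁻¹ = ι ρ ^ 3; rw [← map_inv, ← map_mul, ← map_mul, h10, map_pow]

/-- Alternating sections of F4. -/
theorem alt_section_le {F : Type*} [Field F] [Fintype F] (p : ℕ) [Fact p.Prime] [CharP F p] (r : ℕ)
    (H : Subgroup ↥(chevF4.group F)) (N : Subgroup ↥H) [N.Normal]
    (e : ↥H ⧸ N ≃* ↥(alternatingGroup (Fin r))) : r ≤ 10 + (if p = 11 then 1 else 0) := by
  classical
  let L := FiniteField.Extension F p 60
  letI := Fintype.ofFinite L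
  have hQ : ∀ l : ℕ, l.Prime → (l - 1) ∣ 60 → p ≠ l → Fintype.card L % l = 1 := by
    intro l hl hdvd hpl
    rw [← Nat.card_eq_fintype_card, FiniteField.natCard_extension, Nat.card_eq_fintype_card]
    obtain ⟨f, -, hf⟩ := FiniteField.card F p
    obtain ⟨d, hd⟩ := hdvd
    have hco : Nat.Coprime (Fintype.card F) l := by
      rw [hf]; exact Nat.Coprime.pow_left _ ((Nat.coprime_primes Fact.out hl).2 hpl)
    have h1 : Fintype.card F ^ (l - 1) ≡ 1 [MOD l] := Nat.ModEq.pow_card_sub_one_eq_one hl hco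
    have h2 := h1.pow d
    rw [← pow_mul, ← hd, one_pow] at h2
    unfold Nat.ModEq at h2
    rwa [Nat.mod_eq_of_lt hl.one_lt] at h2
  let j : ↥(chevF4.group F) →* ↥(chevF4.group L) :=
    ((gmap (algebraMap F L)).comp (chevF4.group F).subtype).codRestrict _ fun g =>
      factsF4.gmap_group_le (algebraMap F L) (Subgroup.mem_map_of_mem _ g.2)
  have hj : Function.Injective j := fun a b h =>
    Subtype.ext (gmap_injective (algebraMap F L) (congrArg Subtype.val h))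
  let π : ↥(H.map j) →* ↥(alternatingGroup (Fin r)) :=
    (e.toMonoidHom.comp (QuotientGroup.mk' N)).comp (Subgroup.equivMapOfInjective H j hj).symm.toMonoidHom
  have hπ : Function.Surjective π := by
    refine Function.Surjective.comp (g := e.toMonoidHom.comp (QuotientGroup.mk' N)) ?_
      (Subgroup.equivMapOfInjective H j hj).symm.surjective
    exact e.surjective.comp (QuotientGroup.mk'_surjective N)
  split_ifs with hp
  · subst hp
    exact alt_le_eleven (hQ 5 (by norm_num) (by norm_num) (by norm_num)) (hQ 7 (by norm_num) (by norm_num) (by norm_num))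
      _ π hπ
  · exact alt_le_ten (hQ 11 (by norm_num) (by norm_num) hp) _ π hπ

end Cfsg.Agent.Small.AltSec.F4A
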