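import Mathlib

/-!
The sum of the dimensions of the negative eigenspaces of a group of exponent two.
-/

set_option autoImplicit false
set_option linter.unusedSectionVars false

namespace Cfsg.Agent.Small.AltSec

universe u v

variable {F : Type u} [Field F] {M : Type*} [Group M]

/-- The negative eigenspace. -/
def negSp {V : Type v} [AddCommGroup V] [Module F V] (ρ : M →* Module.End F V) (m : M) : Submodule F V :=
  LinearMap.ker (ρ m + 1)

theorem mem_negSp {V : Type v} [AddCommGroup V] [Module F V] {ρ : M →* Module.End F V} {m : M} {x : V} :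
    x ∈ negSp ρ m ↔ ρ m x = -x := by
  rw [negSp, LinearMap.mem_ker, LinearMap.add_apply, Module.End.one_apply, add_eq_zero_iff_eq_neg]

/-- The restriction to an invariant subspace. -/
def restr {V : Type v} [AddCommGroup V] [Module F V] (ρ : M →* Module.End F V) (p : Submodule F V)
    (hp : ∀ m : M, ∀ x ∈ p, ρ m x ∈ p) : M →* Module.End F ↥p where
  toFun m := (ρ m).restrict (hp m)
  map_one' := by ext x; simp
  map_mul' a b := by ext x; simp

theorem eq_of_sq {V : Type v} [AddCommGroup V] [Module F V] (h2 : (2 : F) ≠ 0) (ρ : M →* Module.End F V)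
    {m : M} (hm : m ^ 2 = 1) (h : negSp ρ m = ⊥) : ρ m = 1 := by
  refine LinearMap.ext fun x => ?_
  have hs : ρ m (ρ m x) = x := by rw [← Module.End.mul_apply, ← map_mul, ← pow_two, hm, map_one, Module.End.one_apply]
  have hx : ρ m x - x ∈ negSp ρ m := mem_negSp.2 (by rw [map_sub, hs, neg_sub])
  rw [h, Submodule.mem_bot, sub_eq_zero] at hx
  rw [hx, Module.End.one_apply]

/-- The order of the group divides twice the sum of the dimensions. -/
theorem card_dvd_sum (h2 : (2 : F) ≠ 0) [Fintype M] (hexp : ∀ m : M, m ^ 2 = 1) :
    ∀ (n : ℕ) {V : Type v} [AddCommGroup V] [Module F V] [FiniteDimensional F V] (ρ : M →* Module.End F V),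
      Module.finrank F V = n → Fintype.card M ∣ 2 * ∑ m, Module.finrank F ↥(negSp ρ m) := by
  intro n
  induction n using Nat.strong_induction_on with
  | _ n ih =>
    intro V _ _ _ ρ hn
    classical
    have hcomm : ∀ a b : M, a * b = b * a := fun a b => by
      have hi : ∀ c : M, c⁻¹ = c := fun c => inv_eq_of_mul_eq_one_right (by rw [← pow_two, hexp])
      calc a * b = (a * b)⁻¹ := (hi _).symm
        _ = b * a := by rw [mul_inv_rev, hi, hi]
    have hcv : ∀ a b : M, ∀ x : V, ρ a (ρ b x) = ρ b (ρ a x) := fun a b x => by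
      rw [← Module.End.mul_apply, ← map_mul, hcomm, map_mul, Module.End.mul_apply]
    have hsq : ∀ a : M, ∀ x : V, ρ a (ρ a x) = x := fun a x => by
      rw [← Module.End.mul_apply, ← map_mul, ← pow_two, hexp, map_one, Module.End.one_apply]
    by_cases hsp : ∃ a : M, negSp ρ a ≠ ⊥ ∧ negSp ρ a ≠ ⊤
    · obtain ⟨a, hb, ht⟩ := hsp
      let q : Submodule F V := LinearMap.ker (ρ a - 1)
      have hq : ∀ x, x ∈ q ↔ ρ a x = x := fun x => by
        rw [LinearMap.mem_ker, LinearMap.sub_apply, Module.End.one_apply, sub_eq_zero]
      have hc : IsCompl (negSp ρ a) q := by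
        refine IsCompl.of_eq ?_ ?_
        · rw [eq_bot_iff]
          rintro x ⟨hx1, hx2⟩
          have e : -x = x := (mem_negSp.1 hx1).symm.trans ((hq x).1 hx2)
          rw [neg_eq_iff_add_eq_zero, ← two_smul F, smul_eq_zero] at e
          exact e.resolve_left h2
        · rw [eq_top_iff]
          intro x _
          rw [Submodule.mem_sup]
          refine ⟨(2 : F)⁻¹ • (x - ρ a x), mem_negSp.2 ?_, (2 : F)⁻¹ • (x + ρ a x), (hq _).2 ?_, ?_⟩
          · rw [map_smul, map_sub, hsq, ← smul_neg, neg_sub]
          · rw [map_smul, map_add, hsq, add_comm]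
          · rw [← smul_add, sub_add_add_cancel, ← two_smul F x, inv_smul_smul₀ h2]
      have hp1 : ∀ m : M, ∀ x ∈ negSp ρ a, ρ m x ∈ negSp ρ a := fun m x hx =>
        mem_negSp.2 (by rw [hcv, mem_negSp.1 hx, map_neg])
      have hp2 : ∀ m : M, ∀ x ∈ q, ρ m x ∈ q := fun m x hx => (hq _).2 (by rw [hcv, (hq x).1 hx])
      have hd := Submodule.finrank_add_eq_of_isCompl hc
      have hqb : 0 < Module.finrank F ↥q := by
        have : Module.finrank F ↥(negSp ρ a) < Module.finrank F V := Submodule.finrank_lt ht
        omega
      have hpb : 0 < Module.finrank F ↥(negSp ρ a) := by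
        refine Nat.pos_of_ne_zero fun h => hb (Submodule.finrank_eq_zero.1 h)
      have h1 := ih _ (by omega) (restr ρ _ hp1) rfl
      have h3 := ih _ (by omega) (restr ρ _ hp2) rfl
      have hadd : ∀ m, Module.finrank F ↥(negSp ρ m) =
          Module.finrank F ↥(negSp (restr ρ _ hp1) m) + Module.finrank F ↥(negSp (restr ρ _ hp2) m) := by
        intro m
        let e := Submodule.prodEquivOfIsCompl _ _ hc
        have key : negSp ρ m = ((negSp (restr ρ _ hp1) m).prod (negSp (restr ρ _ hp2) m)).map (e : _ →ₗ[F] V) := by
          ext x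
          obtain ⟨⟨y, z⟩, rfl⟩ := e.surjective x
          rw [Submodule.mem_map_equiv, LinearEquiv.symm_apply_apply, Submodule.mem_prod, mem_negSp, mem_negSp,
            mem_negSp]
          have hL : ρ m (e (y, z)) = e (restr ρ _ hp1 m y, restr ρ _ hp2 m z) := by
            simp [e, Submodule.coe_prodEquivOfIsCompl', restr]
          rw [hL, ← map_neg, e.injective.eq_iff, Prod.neg_mk, Prod.mk.injEq]
        let P1 := negSp (restr ρ _ hp1) m
        let P2 := negSp (restr ρ _ hp2) m
        let e2 : ↥(P1.prod P2) ≃ₗ[F] ↥P1 × ↥P2 :=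
          { toFun := fun x => (⟨x.1.1, x.2.1⟩, ⟨x.1.2, x.2.2⟩)
            invFun := fun x => ⟨(x.1.1, x.2.1), x.1.2, x.2.2⟩
            map_add' := fun _ _ => rfl
            map_smul' := fun _ _ => rfl
            left_inv := fun _ => rfl
            right_inv := fun _ => rfl }
        rw [key, LinearEquiv.finrank_map_eq, e2.finrank_eq, Module.finrank_prod]
      simp only [hadd, Finset.sum_add_distrib, mul_add]
      exact dvd_add h1 h3
    · push Not at hsp
      let K : Subgroup M :=
        { carrier := {m | ρ m = 1}
          one_mem' := map_one ρ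
          mul_mem' := fun {a b} (ha : ρ a = 1) (hb : ρ b = 1) => show ρ (a * b) = 1 by rw [map_mul, ha, hb, one_mul]
          inv_mem' := fun {a} (ha : ρ a = 1) => show ρ a⁻¹ = 1 by
            rw [inv_eq_of_mul_eq_one_right (show a * a = 1 by rw [← pow_two, hexp]), ha] }
      have hK : ∀ m, m ∈ K → Module.finrank F ↥(negSp ρ m) = 0 := fun m hm => by
        rw [Submodule.finrank_eq_zero, eq_bot_iff]
        intro x hx
        have e := mem_negSp.1 hx
        rw [show ρ m = 1 from hm, Module.End.one_apply, eq_neg_iff_add_eq_zero, ← two_smul F, smul_eq_zero] at e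
        exact e.resolve_left h2
      have hnK : ∀ m, m ∉ K → negSp ρ m = ⊤ := fun m hm =>
        hsp m fun h => hm (eq_of_sq h2 ρ (hexp m) h)
      by_cases hall : ∀ m, m ∈ K
      · rw [Finset.sum_eq_zero fun m _ => hK m (hall m)]; simp
      · push Not at hall
        obtain ⟨b, hb⟩ := hall
        have hiff : ∀ m, m * b ∈ K ↔ m ∉ K := by
          intro m
          refine ⟨fun h hm => hb ((K.mul_mem_cancel_left hm).1 h), fun hm => ?_⟩
          show ρ (m * b) = 1
          refine LinearMap.ext fun x => ?_
          rw [map_mul, Module.End.mul_apply, mem_negSp.1 ((hnK b hb).ge Submodule.mem_top),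
            map_neg, mem_negSp.1 ((hnK m hm).ge Submodule.mem_top), neg_neg, Module.End.one_apply]
        have hsum : ∀ m, Module.finrank F ↥(negSp ρ m) = if m ∈ K then 0 else n := by
          intro m
          split_ifs with h
          · exact hK m h
          · rw [hnK m h, finrank_top, hn]
        rw [Finset.sum_congr rfl fun m _ => hsum m, Finset.sum_ite, Finset.sum_const_zero, zero_add,
          Finset.sum_const, smul_eq_mul]
        have hc : (Finset.univ.filter fun m => m ∈ K).card = (Finset.univ.filter fun m => m ∉ K).card := by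
          refine Finset.card_bij (fun m _ => m * b) ?_ (fun a _ c _ h => mul_right_cancel h) ?_
          · intro m hm
            simp only [Finset.mem_filter, Finset.mem_univ, true_and] at hm ⊢
            exact fun h => (hiff m).1 h hm
          · intro m hm
            simp only [Finset.mem_filter, Finset.mem_univ, true_and] at hm
            exact ⟨m * b, by simp [(hiff m).2 hm], by rw [mul_assoc, ← pow_two, hexp, mul_one]⟩
        have htot := Finset.card_filter_add_card_filter_not (s := (Finset.univ : Finset M)) (fun m => m ∈ K)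
        rw [Finset.card_univ] at htot
        exact ⟨n, by rw [← htot, hc]; ring⟩

end Cfsg.Agent.Small.AltSec
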