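import Cfsg.Agent.Lib.Small.AltSec.Generic
import Cfsg.Agent.Lib.Small.AltSec.NegDim
import Cfsg.Agent.Lib.Lie.G2Embed
import Cfsg.Agent.Lib.Classical.SL2FourSylow
import Cfsg.Agent.S1046
import Cfsg.Agent.S1059
import Cfsg.Agent.S1035
import Cfsg.Agent.S4278
import Cfsg.Agent.S4279

/-!
Alternating sections of the groups of type G₂.
-/

set_option autoImplicit false
set_option maxRecDepth 4000
set_option linter.unusedSectionVars false

namespace Cfsg.Agent.Small.AltSec.G2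

open Cfsg.Lie Cfsg.Agent.Lie
open scoped MatrixGroups

theorem dihedral_pow_six {W : Type*} [Group W] {a b : W} (ha2 : a * a = 1) (hb2 : b * b = 1)
    (hab : (a * b) ^ 6 = 1) (hgen : Subgroup.closure {a, b} = ⊤) (w : W) : w ^ 6 = 1 := by
  have hai : a⁻¹ = a := inv_eq_of_mul_eq_one_right ha2
  have hbi : b⁻¹ = b := inv_eq_of_mul_eq_one_right hb2
  have hflip : ∀ k : ℤ, a * (a * b) ^ k = (a * b) ^ (-k) * a := fun k => by
    have e : a * (a * b) * a⁻¹ = (a * b)⁻¹ := by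
      rw [mul_inv_rev, hai, hbi, ← mul_assoc a a b, ha2, one_mul]
    rw [zpow_neg, ← inv_zpow, ← e, conj_zpow]
    group
  have hbk : ∀ k : ℤ, b * (a * b) ^ k = (a * b) ^ (-(1 + k)) * a := fun k => by
    rw [← hflip, zpow_one_add, ← mul_assoc, ← mul_assoc a a b, ha2, one_mul]
  have hall : ∃ k : ℤ, w = (a * b) ^ k ∨ w = (a * b) ^ k * a := by
    have hv : w ∈ Subgroup.closure {a, b} := by rw [hgen]; exact Subgroup.mem_top _
    have hstep : ∀ x v, x = a ∨ x = b → (∃ k : ℤ, v = (a * b) ^ k ∨ v = (a * b) ^ k * a) →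
        ∃ k : ℤ, x * v = (a * b) ^ k ∨ x * v = (a * b) ^ k * a := by
      rintro x v hx ⟨k, hk⟩
      rcases hx with h | h <;> rw [h] <;> rcases hk with rfl | rfl
      · exact ⟨-k, Or.inr (hflip k)⟩
      · exact ⟨-k, Or.inl (by rw [← mul_assoc, hflip, mul_assoc, ha2, mul_one])⟩
      · exact ⟨-(1 + k), Or.inr (hbk k)⟩
      · exact ⟨-(1 + k), Or.inl (by rw [← mul_assoc, hbk, mul_assoc, ha2, mul_one])⟩
    induction hv using Subgroup.closure_induction_left with
    | one => exact ⟨0, Or.inl (zpow_zero _).symm⟩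
    | mul_left x hx y hy ih => exact hstep x y hx ih
    | inv_mul_cancel x hx y hy ih =>
      refine hstep x⁻¹ y ?_ ih
      rcases hx with rfl | rfl
      exacts [Or.inl hai, Or.inr hbi]
  obtain ⟨k, rfl | rfl⟩ := hall
  · rw [← zpow_natCast, ← zpow_mul, mul_comm, zpow_mul, zpow_natCast, hab, one_zpow]
  · have h2 : ((a * b) ^ k * a) ^ 2 = 1 := by
      rw [pow_two, mul_assoc, ← mul_assoc a, hflip, mul_assoc, ha2, mul_one, ← zpow_add, add_neg_cancel, zpow_zero]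
    rw [show (6 : ℕ) = 2 * 3 by norm_num, pow_mul, h2, one_pow]

theorem weyl_pow_six (w : factsG2.weyl) : w ^ 6 = 1 := by
  have h0 : 0 < chevG2.rank := by decide +kernel
  have h1 : 1 < chevG2.rank := by decide +kernel
  have hm : ∀ i j : Fin 2, i.val = 0 → j.val = 1 → (CoxeterMatrix.G₂ : CoxeterMatrix (Fin 2)).M i j = 6 := by
    intro i j hi hj
    obtain rfl : i = 0 := Fin.ext hi
    obtain rfl : j = 1 := Fin.ext hj
    rfl
  have hc : (factsG2.refSys.s ⟨0, h0⟩ * factsG2.refSys.s ⟨1, h1⟩) ^ 6 = 1 :=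
    (congrArg (fun k => (factsG2.refSys.s ⟨0, h0⟩ * factsG2.refSys.s ⟨1, h1⟩) ^ k)
      (hm ⟨0, h0⟩ ⟨1, h1⟩ rfl rfl)).symm.trans (coxeterG2.1 ⟨0, h0⟩ ⟨1, h1⟩)
  refine dihedral_pow_six (factsG2.wS_sq ⟨0, h0⟩) (factsG2.wS_sq ⟨1, h1⟩) hc ?_ w
  rw [eq_top_iff, ← factsG2.wS_gen, Subgroup.closure_le]
  rintro _ ⟨i, rfl⟩
  refine Subgroup.subset_closure ?_
  rcases i with ⟨_ | _ | n, hn⟩
  · exact Or.inl rfl
  · exact Or.inr rfl
  · exact absurd (show n + 2 < 2 from hn) (by omega)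

theorem sq_mod_five {q : ℕ} (hq : ¬ 5 ∣ q) (h5 : 5 ∣ q ^ 6 * (q ^ 2 - 1) * (q ^ 6 - 1)) : q ^ 2 % 5 = 1 := by
  have h2 : ∀ m, m % 5 = 4 → ¬ 5 ∣ m - 1 := fun m hm => by omega
  have hP : Nat.Prime 5 := by norm_num
  rcases (Nat.Prime.dvd_mul hP).1 h5 with h | h
  · rcases (Nat.Prime.dvd_mul hP).1 h with h | h
    · exact absurd (hP.dvd_of_dvd_pow h) hq
    · have h1 : 1 ≤ q ^ 2 := Nat.one_le_pow _ _ (Nat.pos_of_ne_zero (by rintro rfl; simp at hq))
      omega
  · by_contra hne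
    refine h2 (q ^ 6) ?_ h
    have hr : q % 5 = 2 ∨ q % 5 = 3 := by
      rw [Nat.pow_mod] at hne
      have : q % 5 = 1 ∨ q % 5 = 2 ∨ q % 5 = 3 ∨ q % 5 = 4 := by omega
      rcases this with h | h | h | h <;> simp_all
    rcases hr with h | h <;> rw [Nat.pow_mod, h]

section Ext

variable {K : Type*} [Field K]

theorem torus_comm {x y : GL chevG2.Idx K} (hx : x ∈ chevG2.diagonalSubgroup K)
    (hy : y ∈ chevG2.diagonalSubgroup K) : x * y = y * x := by
  rw [factsG2.diagonalSubgroup_eq] at hx hy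
  obtain ⟨t, rfl⟩ := hx
  obtain ⟨t', rfl⟩ := hy
  rw [← map_mul, mul_comm, map_mul]

theorem no_eigen {g x : GL chevG2.Idx K} (hg : g ∈ chevG2.group K) (hx : x ∈ chevG2.diagonalSubgroup K)
    (h5 : x ^ 5 = 1) {i : ℕ} (hi : i = 2 ∨ i = 3) (he : g * x * g⁻¹ = x ^ i) : x = 1 := by
  obtain ⟨n, hn, hne⟩ := Cfsg.Agent.S1046.result chevG2 (by simp) x (x ^ i) g hx (pow_mem hx i) hg he
  have h6 : (⟨n, hn⟩ : ↥(chevG2.monomialSubgroup K)) ^ 6 ∈ (factsG2.wHom K).ker := by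
    rw [MonoidHom.mem_ker, map_pow, weyl_pow_six]
  rw [factsG2.wHom_ker, Subgroup.mem_subgroupOf, SubgroupClass.coe_pow] at h6
  have key : ∀ k : ℕ, n ^ k * x * (n ^ k)⁻¹ = x ^ i ^ k := by
    intro k
    induction k with
    | zero => simp
    | succ k ih =>
      rw [pow_succ' n, show n * n ^ k * x * (n * n ^ k)⁻¹ = n * (n ^ k * x * (n ^ k)⁻¹) * n⁻¹ by group, ih,
        ← conj_pow, hne, ← pow_mul, pow_succ']
  have h := key 6
  rw [torus_comm h6 hx, mul_inv_cancel_right, pow_eq_pow_mod (i ^ 6) h5] at h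
  have h4 : x ^ 3 = 1 := by
    rcases hi with rfl | rfl <;> norm_num at h <;>
      exact mul_left_cancel (a := x) (by rw [mul_one, ← pow_succ']; exact h.symm)
  calc x = x * (x ^ 3) ^ 3 := by rw [h4, one_pow, mul_one]
    _ = (x ^ 5) ^ 2 := by rw [← pow_mul, ← pow_mul, ← pow_succ']
    _ = 1 := by rw [h5, one_pow]

end Ext

theorem five_centralises {F : Type*} [Field F] [Fintype F] (p : ℕ) [Fact p.Prime] [CharP F p] (hp : p ≠ 5)
    {P : Subgroup ↥(chevG2.group F)} (hP : IsPGroup 5 P) {t : ↥(chevG2.group F)} {k : ℕ} (ht : t ^ 2 ^ k = 1)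
    (hn : ∀ y ∈ P, t * y * t⁻¹ ∈ P) : ∀ y ∈ P, t * t * y = y * (t * t) := by
  classical
  haveI : Fact (Nat.Prime 5) := ⟨by norm_num⟩
  set q := Fintype.card F with hq
  by_cases h5 : 5 ∣ Nat.card ↥(chevG2.group F)
  swap
  · intro y hy
    obtain ⟨j, hj⟩ := hP ⟨y, hy⟩
    have hj' : y ^ 5 ^ j = 1 := congrArg Subtype.val hj
    have hy1 : y = 1 := by
      refine orderOf_eq_one_iff.1 (Nat.dvd_one.1 ?_)
      have h1 := orderOf_dvd_of_pow_eq_one hj'
      obtain ⟨i, -, hi⟩ := (Nat.dvd_prime_pow (by norm_num)).1 h1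
      rcases Nat.eq_zero_or_pos i with rfl | hi0
      · simp [hi]
      · exact absurd ((dvd_pow_self 5 hi0.ne').trans (hi ▸ orderOf_dvd_natCard y)) h5
    simp [hy1]
  have hq5 : ¬ 5 ∣ q := by
    obtain ⟨f, -, hf⟩ := FiniteField.card F p
    intro h
    exact hp ((Nat.prime_dvd_prime_iff_eq (by norm_num) Fact.out).1
      ((Nat.Prime.dvd_of_dvd_pow (by norm_num)) (show 5 ∣ p ^ (f : ℕ) from hf ▸ h))).symm
  rw [Cfsg.Agent.S1059.result (F := F) rfl] at h5
  let K := FiniteField.Extension F p 2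
  letI := Fintype.ofFinite K
  have hK : Fintype.card K = q ^ 2 := by
    rw [← Nat.card_eq_fintype_card, FiniteField.natCard_extension, Nat.card_eq_fintype_card]
  let j : ↥(chevG2.group F) →* ↥(chevG2.group K) :=
    ((gmap (algebraMap F K)).comp (chevG2.group F).subtype).codRestrict _ fun g =>
      factsG2.gmap_group_le (algebraMap F K) (Subgroup.mem_map_of_mem _ g.2)
  have hj : Function.Injective j := fun a b h =>
    Subtype.ext (gmap_injective (algebraMap F K) (congrArg Subtype.val h))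
  set Q := q ^ 2 with hQ
  have hq2 : 2 ≤ q := Fintype.one_lt_card
  have hQ1 : Q % 5 = 1 := sq_mod_five hq5 h5
  have hH : Nat.card ↥(chevG2.diagonalSubgroup K) = (Q - 1) ^ 2 := by
    simpa [show chevG2.rank = 2 from rfl] using
      Cfsg.Agent.S1035.result (F := K) (q := Q) hK (chevG2, 1) (by simp)
  let T : Subgroup ↥(chevG2.group K) := (chevG2.diagonalSubgroup K).subgroupOf (chevG2.group K)
  have hTle : chevG2.diagonalSubgroup K ≤ chevG2.group K := fun x hx =>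
    factsG2.monomial_le_group (by rw [← factsG2.tsys_N]; exact (factsG2.tsys K).H_le_N (by rwa [factsG2.tsys_H]))
  have hnd : ¬ 5 ∣ T.index := by
    have h := T.card_mul_index
    rw [Nat.card_congr (Subgroup.subgroupOfEquivOfLe hTle).toEquiv, hH,
      Cfsg.Agent.S1059.result (F := K) hK] at h
    have hfac : Q ^ 6 * (Q ^ 2 - 1) * (Q ^ 6 - 1) =
        (Q - 1) ^ 2 * (Q ^ 6 * (Q + 1) * (Q ^ 5 + Q ^ 4 + Q ^ 3 + Q ^ 2 + Q + 1)) := by
      have hQ0 : 1 ≤ Q := by omega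
      obtain ⟨c, hc⟩ : ∃ c, Q = c + 1 := ⟨Q - 1, by omega⟩
      rw [hc, show (c + 1) ^ 2 - 1 = c * (c + 2) by
          rw [show (c + 1) ^ 2 = c * (c + 2) + 1 by ring, Nat.add_sub_cancel],
        show (c + 1) ^ 6 - 1 = c * ((c + 1) ^ 5 + (c + 1) ^ 4 + (c + 1) ^ 3 + (c + 1) ^ 2 + (c + 1) + 1) by
          rw [show (c + 1) ^ 6 = c * ((c + 1) ^ 5 + (c + 1) ^ 4 + (c + 1) ^ 3 + (c + 1) ^ 2 + (c + 1) + 1) + 1 by ring,
            Nat.add_sub_cancel], Nat.add_sub_cancel]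
      ring
    rw [hfac] at h
    have hQ2 : 2 ≤ Q := by rw [hQ]; nlinarith
    rw [mul_left_cancel₀ (pow_ne_zero _ (by omega)) h, Nat.dvd_iff_mod_eq_zero]
    simp [Nat.mul_mod, Nat.add_mod, Nat.pow_mod, hQ1]
  obtain ⟨T5⟩ : Nonempty (Sylow 5 ↥T) := inferInstance
  have hR : IsPGroup 5 ↥((T5 : Subgroup ↥T).map T.subtype) := T5.2.map _
  have hidx : ¬ 5 ∣ ((T5 : Subgroup ↥T).map T.subtype).index := by
    rw [Subgroup.index_map_subtype]
    intro h
    rcases (Nat.Prime.dvd_mul (by norm_num)).1 h with h | h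
    · exact T5.not_dvd_index h
    · exact hnd h
  obtain ⟨S, hS⟩ := (hP.map j).exists_le_sylow
  obtain ⟨c, hc⟩ := MulAction.exists_smul_eq ↥(chevG2.group K) S (hR.toSylow hidx)
  have hcP : ∀ y ∈ P, ((c * j y * c⁻¹ : ↥(chevG2.group K)) : GL chevG2.Idx K) ∈ chevG2.diagonalSubgroup K := by
    intro y hy
    have h1 : c * j y * c⁻¹ ∈ ((c • S : Sylow 5 ↥(chevG2.group K)) : Subgroup ↥(chevG2.group K)) := by
      rw [Sylow.coe_subgroup_smul]
      exact Subgroup.mem_map.2 ⟨j y, hS (Subgroup.mem_map_of_mem j hy), rfl⟩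
    rw [hc] at h1
    obtain ⟨z, -, hz⟩ := Subgroup.mem_map.1 h1
    rw [← hz]
    exact z.2
  have hcomm : ∀ a ∈ P, ∀ b ∈ P, a * b = b * a := by
    intro a ha b hb
    have h : (c * j a * c⁻¹) * (c * j b * c⁻¹) = (c * j b * c⁻¹) * (c * j a * c⁻¹) :=
      Subtype.ext (torus_comm (hcP a ha) (hcP b hb))
    rw [show c * j a * c⁻¹ * (c * j b * c⁻¹) = c * (j a * j b) * c⁻¹ by group,
      show c * j b * c⁻¹ * (c * j a * c⁻¹) = c * (j b * j a) * c⁻¹ by group, ← map_mul, ← map_mul] at h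
    exact hj (mul_left_cancel (mul_right_cancel h))
  letI : CommGroup ↥P := { (inferInstance : Group ↥P) with mul_comm := fun a b => Subtype.ext (hcomm _ a.2 _ b.2) }
  let f : ↥P →* ↥P := MonoidHom.mk' (fun y => ⟨t * y * t⁻¹, hn _ y.2⟩) fun a b => Subtype.ext (by
    show t * (a.1 * b.1) * t⁻¹ = t * a.1 * t⁻¹ * (t * b.1 * t⁻¹); group)
  have hit : ∀ (n : ℕ) (y : ↥P), (((fun z => f z)^[n] y : ↥P) : ↥(chevG2.group F)) = t ^ n * y * (t ^ n)⁻¹ := by
    intro n
    induction n with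
    | zero => simp
    | succ n ih =>
      intro y
      rw [Function.iterate_succ_apply', pow_succ']
      show t * _ * t⁻¹ = _
      rw [ih]; group
  intro y hy
  have h := fix_of_two hP k f (fun x => Subtype.ext (by rw [hit, ht]; simp)) (fun n z h5z h => ?_) ⟨y, hy⟩
  · have e : t * (t * y * t⁻¹) * t⁻¹ = y := congrArg Subtype.val h
    calc t * t * y = t * (t * y * t⁻¹) * t⁻¹ * (t * t) := by group
      _ = y * (t * t) := by rw [e]
  · obtain ⟨i, hi, he⟩ : ∃ i, (i = 2 ∨ i = 3) ∧ (fun z => f z)^[n] z = z ^ i :=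
      h.elim (fun h => ⟨2, Or.inl rfl, h⟩) fun h => ⟨3, Or.inr rfl, h⟩
    have he' := congrArg Subtype.val he
    rw [hit, SubgroupClass.coe_pow] at he'
    have h5' : (z : ↥(chevG2.group F)) ^ 5 = 1 := by rw [← SubgroupClass.coe_pow, h5z]; rfl
    have hconj : (c * j (t ^ n) * c⁻¹) * (c * j z * c⁻¹) * (c * j (t ^ n) * c⁻¹)⁻¹ = (c * j z * c⁻¹) ^ i := by
      rw [conj_pow, ← map_pow j, ← he', map_mul, map_mul, map_inv]; group
    have h5c : (c * j z * c⁻¹) ^ 5 = 1 := by rw [conj_pow, ← map_pow, h5', map_one]; simp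
    have h2 : c * j z * c⁻¹ = 1 := Subtype.ext (no_eigen (c * j (t ^ n) * c⁻¹).2 (hcP z z.2)
      (congrArg Subtype.val h5c) hi (congrArg Subtype.val hconj))
    exact Subtype.ext (hj ((conj_eq_one_iff.1 h2).trans (map_one j).symm))

theorem alt_le_six {F : Type*} [Field F] [Fintype F] (p : ℕ) [Fact p.Prime] [CharP F p] (hp : p ≠ 5) (r : ℕ)
    (H : Subgroup ↥(chevG2.group F)) (N : Subgroup ↥H) [N.Normal]
    (e : ↥H ⧸ N ≃* ↥(alternatingGroup (Fin r))) : r ≤ 6 := by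
  by_contra hc
  obtain ⟨σ, τ, h1, h2, h3⟩ := alt_frob (r := r) (by omega)
  exact no_frob H (e.toMonoidHom.comp (QuotientGroup.mk' N))
    (e.surjective.comp (QuotientGroup.mk'_surjective N)) h1 h2 h3
    fun P hP t k ht hn => five_centralises p hp hP ht hn

theorem card_elem_le {F : Type*} [Field F] [Fintype F] (hodd : Odd (Fintype.card F))
    (E : Subgroup ↥(chevG2.group F)) (hE : ∀ x ∈ E, x ^ 2 = 1) : Nat.card ↥E ≤ 8 := by
  classical
  haveI : Fact (Nat.Prime 2) := ⟨Nat.prime_two⟩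
  by_contra hgt
  have h2 : (2 : F) ≠ 0 := ChevInvol.two_ne_zero_of_odd hodd
  have hEp : IsPGroup 2 ↥E := fun x => ⟨1, Subtype.ext (by simpa using hE x x.2)⟩
  obtain ⟨n, hn⟩ := IsPGroup.iff_card.1 hEp
  have hn4 : 4 ≤ n := by
    by_contra h
    have : 2 ^ n ≤ 2 ^ 3 := Nat.pow_le_pow_right (by norm_num) (by omega)
    omega
  obtain ⟨D, hD⟩ := Sylow.exists_subgroup_card_pow_prime 2 (G := ↥E) (n := 4)
    (by rw [hn]; exact pow_dvd_pow 2 hn4)
  obtain ⟨ψ, hψ, -⟩ := Cfsg.Agent.Lie.G2Seven.exists_embed (F := F) (by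
    rcases hodd with ⟨k, hk⟩
    have := Fintype.one_lt_card (α := F)
    omega)
  let emb7 : GL (Fin 7) F →* Module.End F (Fin 7 → F) :=
    (Matrix.toLinAlgEquiv' : Matrix (Fin 7) (Fin 7) F ≃ₐ[F] _).toAlgHom.toRingHom.toMonoidHom.comp
      (Units.coeHom _)
  let ρG : ↥(chevG2.group F) →* Module.End F (Fin 7 → F) := emb7.comp ψ
  have hρG : Function.Injective ρG := fun a b h => hψ (Units.ext (Matrix.toLinAlgEquiv'.injective h))
  let ι : ↥D →* ↥(chevG2.group F) := E.subtype.comp D.subtype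
  have hι : Function.Injective ι := fun a b h => Subtype.ext (Subtype.ext h)
  let ρ : ↥D →* Module.End F (Fin 7 → F) := ρG.comp ι
  have hexp : ∀ m : ↥D, m ^ 2 = 1 := fun m => hι (by rw [map_pow, map_one]; exact hE _ (m : ↥E).2)
  letI : Fintype ↥D := Fintype.ofFinite _
  have hdvd := card_dvd_sum h2 hexp 7 ρ (by simp)
  obtain ⟨x0, hx0⟩ : ∃ x : ↥D, x ≠ 1 := by
    by_contra h
    push Not at h
    have : Subsingleton ↥D := ⟨fun a b => (h a).trans (h b).symm⟩
    rw [Nat.card_of_subsingleton 1] at hD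
    norm_num at hD
  have hord : ∀ x : ↥D, x ≠ 1 → orderOf (ι x) = 2 := fun x hx =>
    orderOf_eq_prime (by rw [← map_pow, hexp, map_one]) fun h => hx (hι (h.trans (map_one ι).symm))
  have hconst : ∀ x : ↥D, x ≠ 1 → Module.finrank F ↥(negSp ρ x) = Module.finrank F ↥(negSp ρ x0) := by
    intro x hx
    obtain ⟨g, hg⟩ := isConj_iff.1 (Cfsg.Agent.S4278.result hodd (ι x0) (ι x) (hord _ hx0) (hord _ hx))
    let u : (Fin 7 → F) ≃ₗ[F] (Fin 7 → F) := LinearEquiv.ofLinear (ρG g) (ρG g⁻¹)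
      (by rw [← Module.End.mul_eq_comp, ← map_mul, mul_inv_cancel, map_one]; rfl)
      (by rw [← Module.End.mul_eq_comp, ← map_mul, inv_mul_cancel, map_one]; rfl)
    have hmap : negSp ρ x = (negSp ρ x0).map (u : (Fin 7 → F) →ₗ[F] (Fin 7 → F)) := by
      ext v
      obtain ⟨w, rfl⟩ := u.surjective v
      rw [Submodule.mem_map_equiv, LinearEquiv.symm_apply_apply, mem_negSp, mem_negSp]
      have e : ρ x (u w) = u (ρ x0 w) := by
        show ρG (ι x) (ρG g w) = ρG g (ρG (ι x0) w)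
        rw [← Module.End.mul_apply, ← map_mul, ← Module.End.mul_apply, ← map_mul, ← hg, inv_mul_cancel_right]
      rw [e, ← map_neg, u.injective.eq_iff]
    rw [hmap, LinearEquiv.finrank_map_eq]
  have hone : Module.finrank F ↥(negSp ρ 1) = 0 := by
    rw [Submodule.finrank_eq_zero, eq_bot_iff]
    intro v hv
    have e := mem_negSp.1 hv
    rw [map_one, Module.End.one_apply, eq_neg_iff_add_eq_zero, ← two_smul F, smul_eq_zero] at e
    exact e.resolve_left h2
  have hsum : ∑ m, Module.finrank F ↥(negSp ρ m) = 15 * Module.finrank F ↥(negSp ρ x0) := by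
    rw [← Finset.add_sum_erase _ _ (Finset.mem_univ (1 : ↥D)), hone, zero_add,
      Finset.sum_congr rfl fun m hm => hconst m (Finset.ne_of_mem_erase hm), Finset.sum_const,
      Finset.card_erase_of_mem (Finset.mem_univ _), Finset.card_univ, smul_eq_mul, ← Nat.card_eq_fintype_card, hD]
    norm_num
  have hd7 : Module.finrank F ↥(negSp ρ x0) ≤ 7 := (Submodule.finrank_le _).trans (by simp)
  have hd0 : Module.finrank F ↥(negSp ρ x0) ≠ 0 := by
    intro h
    have h1 := eq_of_sq h2 ρ (hexp x0) (Submodule.finrank_eq_zero.1 h)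
    exact hx0 (hι ((hρG (h1.trans (map_one ρG).symm)).trans (map_one ι).symm))
  rw [hsum, ← Nat.card_eq_fintype_card, hD] at hdvd
  norm_num at hdvd
  omega

theorem alt_le_seven {F : Type*} [Field F] [Fintype F] (hodd : Odd (Fintype.card F)) (r : ℕ)
    (H : Subgroup ↥(chevG2.group F)) (N : Subgroup ↥H) [N.Normal]
    (e : ↥H ⧸ N ≃* ↥(alternatingGroup (Fin r))) : r ≤ 7 := by
  classical
  by_contra hc
  haveI : IsSimpleGroup ↥(alternatingGroup (Fin r)) :=
    alternatingGroup.isSimpleGroup (by rw [Nat.card_eq_fintype_card, Fintype.card_fin]; omega)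
  have hA : 5040 < Nat.card ↥(alternatingGroup (Fin r)) := by
    haveI : Nontrivial (Fin r) := Fin.nontrivial_iff_two_le.2 (by omega)
    rw [nat_card_alternatingGroup, Nat.card_eq_fintype_card, Fintype.card_fin]
    have h8 : Nat.factorial 8 ≤ r.factorial := Nat.factorial_le (by omega)
    have : Nat.factorial 8 = 40320 := by decide
    omega
  obtain ⟨E, hE, hE2⟩ := alt_four (r := r) (by omega)
  obtain ⟨z, hz, H1, π1, hπ1, hle⟩ := exists_cent hA (card_elem_le hodd) E hE hE2 H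
    (e.toMonoidHom.comp (QuotientGroup.mk' N)) (e.surjective.comp (QuotientGroup.mk'_surjective N))
  obtain ⟨-, L1, L2, ⟨e1⟩, ⟨e2⟩, hcomm, -, -, hrel⟩ := Cfsg.Agent.S4279.result hodd z hz
  obtain ⟨H2, π2, hπ2, hle2⟩ := section_index_two (by omega) H1 _ _ hle hrel π1 hπ1
  let f : ↥L1 × ↥L2 →* ↥(chevG2.group F) :=
    L1.subtype.noncommCoprod L2.subtype fun a b => hcomm _ a.2 _ b.2
  have hf : f.range = L1 ⊔ L2 := by
    refine (MonoidHom.noncommCoprod_range _ _ _).trans ?_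
    rw [Subgroup.range_subtype, Subgroup.range_subtype]
  let π3 : ↥(H2.comap f) →* ↥(alternatingGroup (Fin r)) :=
    π2.comp ((f.comp (H2.comap f).subtype).codRestrict H2 fun x => x.2)
  have hπ3 : Function.Surjective π3 := fun a => by
    obtain ⟨⟨x, hx⟩, rfl⟩ := hπ2 a
    obtain ⟨y, rfl⟩ := (hf.symm ▸ hle2 hx : x ∈ f.range)
    exact ⟨⟨y, hx⟩, rfl⟩
  have h2 : (2 : F) ≠ 0 := ChevInvol.two_ne_zero_of_odd hodd
  have hu : ∀ (L : Subgroup ↥(chevG2.group F)), (↥L ≃* Matrix.SpecialLinearGroup (Fin 2) F) →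
      ∀ x y : ↥L, orderOf x = 2 → orderOf y = 2 → x = y := by
    intro L eL x y hx hy
    have hz' : ∀ w : ↥L, orderOf w = 2 → eL w * eL w = 1 ∧ eL w ≠ 1 := fun w hw => by
      have hw2 : w ^ 2 = 1 := hw ▸ pow_orderOf_eq_one w
      refine ⟨by rw [← map_mul, ← pow_two, hw2, map_one], fun h => ?_⟩
      rw [← map_one eL] at h
      rw [eL.injective h, orderOf_one] at hw
      omega
    exact eL.injective (Cfsg.Agent.Classical.SL2Four.unique_involution h2 (hz' x hx).1 (hz' x hx).2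
      (hz' y hy).1 (hz' y hy).2)
  rcases section_prod (H2.comap f) π3 hπ3 with ⟨H', π', hπ'⟩ | ⟨H', π', hπ'⟩
  · exact no_section_of_unique (hu L1 e1) E hE hE2 H' π' hπ'
  · exact no_section_of_unique (hu L2 e2) E hE hE2 H' π' hπ'

/-- Alternating sections of G₂. -/
theorem alt_section_le {F : Type*} [Field F] [Fintype F] (p : ℕ) [Fact p.Prime] [CharP F p] (r : ℕ)
    (H : Subgroup ↥(chevG2.group F)) (N : Subgroup ↥H) [N.Normal]
    (e : ↥H ⧸ N ≃* ↥(alternatingGroup (Fin r))) : r ≤ 6 + (if p = 5 then 1 else 0) := by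
  split_ifs with hp
  · subst hp
    obtain ⟨f, -, hf⟩ := FiniteField.card F 5
    exact alt_le_seven (by rw [hf]; exact (by decide : Odd 5).pow) r H N e
  · exact alt_le_six p hp r H N e

end Cfsg.Agent.Small.AltSec.G2
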