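import Mathlib.Tactic
import Mathlib.GroupTheory.Frattini
import Mathlib.GroupTheory.Nilpotent
import Mathlib.GroupTheory.Sylow
import Mathlib.GroupTheory.NoncommCoprod
import Mathlib.GroupTheory.SpecificGroups.Alternating
import Mathlib.GroupTheory.SpecificGroups.Alternating.Simple
import Cfsg.Agent.Lib.Solv.UniqueSub

/-!
Sections isomorphic to alternating groups: two obstructions.

A Frobenius group of order 20 cannot be a section if every element of 2-power order that normalises a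
5-subgroup has a square centralising it; an elementary abelian group of order 16 lifts unless some
involution is centralised by a subgroup still involving the simple group.
-/

set_option autoImplicit false
set_option linter.unusedSectionVars false

namespace Cfsg.Agent.Small.AltSec

/-- An automorphism of 2-power order without eigenvalues 2 and 3 has square one. -/
theorem fix_of_two {P : Type*} [CommGroup P] (hP : IsPGroup 5 P) : ∀ (k : ℕ) (f : P →* P),
    (∀ x : P, (fun y => f y)^[2 ^ k] x = x) →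
    (∀ n : ℕ, ∀ z : P, z ^ 5 = 1 → ((fun y => f y)^[n] z = z ^ 2 ∨ (fun y => f y)^[n] z = z ^ 3) → z = 1) →
    ∀ x : P, f (f x) = x
  | 0, f, hf, _ => fun x => by
    have h : ∀ y, f y = y := fun y => by simpa using hf y
    rw [h, h]
  | k + 1, f, hf, hno => by
    let g : P →* P := f.comp f
    have hg : ∀ n : ℕ, ∀ x, (fun y => g y)^[n] x = (fun y => f y)^[2 * n] x := fun n x => by
      rw [Function.iterate_mul]; rfl
    have h4' := fix_of_two hP k g (fun x => by rw [hg, ← pow_succ']; exact hf x)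
      (fun n z h5 h => hno (2 * n) z h5 (by rwa [hg] at h))
    have h4 : ∀ x, f (f (f (f x))) = x := h4'
    have key : ∀ x : P, x ^ 5 = 1 → f (f x) = x := by
      intro x hx
      set y := f (f x) * x⁻¹ with hy
      have hy5 : y ^ 5 = 1 := by rw [hy, mul_pow, inv_pow, hx, ← map_pow, ← map_pow, hx, map_one, map_one]; simp
      have hyy : f (f y) = y⁻¹ := by rw [hy, map_mul, map_mul, h4, map_inv, map_inv, mul_inv_rev, inv_inv]
      have hfy5 : f y ^ 5 = 1 := by rw [← map_pow, hy5, map_one]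
      suffices hone : y = 1 from mul_inv_eq_one.1 hone
      clear_value y
      clear hy
      have hz : f y * (y ^ 3)⁻¹ = 1 := by
        refine hno 1 _ (by rw [mul_pow, hfy5, inv_pow, ← pow_mul, mul_comm 3, pow_mul, hy5, one_pow, inv_one,
          mul_one]) (Or.inl ?_)
        rw [Function.iterate_one, map_mul, map_inv, map_pow, hyy, mul_pow]
        calc y⁻¹ * (f y ^ 3)⁻¹ = f y ^ 2 * (f y ^ 5)⁻¹ * (y⁻¹ * (y ^ 5)⁻¹) := by
              rw [hy5, inv_one, mul_one, pow_add (f y) 2 3, mul_inv, mul_inv_cancel_left, mul_comm]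
          _ = f y ^ 2 * ((y ^ 3)⁻¹) ^ 2 := by
              rw [hfy5, inv_one, mul_one, inv_pow, ← mul_inv, ← pow_succ', ← pow_mul]
      have h3 : f y = y ^ 3 := mul_inv_eq_one.1 hz
      have h1 : y = 1 := hno 1 y hy5 (Or.inr (by rw [Function.iterate_one]; exact h3))
      exact h1
    suffices h : ∀ j : ℕ, ∀ x : P, x ^ 5 ^ j = 1 → f (f x) = x by
      intro x
      obtain ⟨j, hj⟩ := hP x
      exact h j x hj
    intro j
    induction j with
    | zero => intro x hx; rw [pow_zero, pow_one] at hx; rw [hx, map_one, map_one]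
    | succ j ih =>
      intro x hx
      have h5 : f (f (x ^ 5)) = x ^ 5 := ih _ (by rw [← pow_mul, ← pow_succ']; exact hx)
      obtain ⟨c, hc, hfx⟩ : ∃ c : P, c ^ 5 = 1 ∧ f (f x) = x * c :=
        ⟨x⁻¹ * f (f x), by rw [mul_pow, ← map_pow, ← map_pow, h5, inv_pow, inv_mul_cancel],
          by rw [mul_inv_cancel_left]⟩
      have e : x * c * c = x :=
        calc x * c * c = f (f x) * f (f c) := by rw [hfx, key c hc]
          _ = f (f (f (f x))) := by rw [← map_mul, ← map_mul, hfx]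
          _ = x := h4 x
      have hc2 : c ^ 2 = 1 := by rwa [mul_assoc, mul_eq_left, ← pow_two] at e
      have : c = 1 := by
        calc c = c * (c ^ 2) ^ 2 := by rw [hc2, one_pow, mul_one]
          _ = c ^ 5 := by rw [← pow_mul, ← pow_succ']
          _ = 1 := hc
      rw [hfx, this, mul_one]

/-- A p-subgroup of a quotient is the image of a p-subgroup. -/
theorem exists_lift {H A : Type*} [Group H] [Finite H] [Group A] {p : ℕ} [Fact p.Prime] (π : H →* A)
    (hπ : Function.Surjective π) (E : Subgroup A) (hE : IsPGroup p ↥E) :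
    ∃ P : Subgroup H, IsPGroup p ↥P ∧ P.map π = E := by
  classical
  haveI : Finite A := Finite.of_surjective π hπ
  set L : Subgroup H := E.comap π with hL
  let ψ : ↥L →* ↥E := (π.comp L.subtype).codRestrict _ fun y => y.2
  have hψ : Function.Surjective ψ := by
    rintro ⟨y, hy⟩
    obtain ⟨z, rfl⟩ := hπ y
    exact ⟨⟨z, hy⟩, rfl⟩
  obtain ⟨P⟩ : Nonempty (Sylow p ↥L) := inferInstance
  have htop : (P : Subgroup ↥L).map ψ = ⊤ := by
    rw [← Subgroup.index_eq_one]
    have hdvd : ((P : Subgroup ↥L).map ψ).index ∣ (P : Subgroup ↥L).index := Subgroup.index_map_dvd _ hψ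
    obtain ⟨n, hn⟩ := hE.index ((P : Subgroup ↥L).map ψ)
    rcases Nat.eq_zero_or_pos n with rfl | hn0
    · simpa using hn
    · exact absurd ((dvd_pow_self p hn0.ne').trans (hn ▸ hdvd)) P.not_dvd_index
  refine ⟨(P : Subgroup ↥L).map L.subtype, P.2.map _, ?_⟩
  calc ((P : Subgroup ↥L).map L.subtype).map π = ((P : Subgroup ↥L).map ψ).map E.subtype := by
        rw [Subgroup.map_map, Subgroup.map_map]; rfl
    _ = E := by rw [htop, ← MonoidHom.range_eq_map, Subgroup.range_subtype]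

theorem four_pow_odd {e : ℕ} (he : ¬ 2 ∣ e) : 2 ^ (2 * e) % 5 = 4 := by
  obtain ⟨j, rfl⟩ : ∃ j, e = 2 * j + 1 := ⟨e / 2, by omega⟩
  rw [show 2 * (2 * j + 1) = 4 * j + 2 by ring, pow_add, pow_mul, Nat.mul_mod, Nat.pow_mod]
  norm_num

/-- The Frobenius group of order 20 is not a section. -/
theorem no_frob {G : Type*} [Group G] [Finite G] {A : Type*} [Group A] (H : Subgroup G) (π : ↥H →* A)
    (hπ : Function.Surjective π) {σ τ : A} (hs : σ ^ 5 = 1) (hs1 : σ ≠ 1)
    (hts : τ * σ * τ⁻¹ = σ ^ 2)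
    (key : ∀ P : Subgroup G, IsPGroup 5 P → ∀ (t : G) (k : ℕ), t ^ 2 ^ k = 1 → (∀ y ∈ P, t * y * t⁻¹ ∈ P) →
      ∀ y ∈ P, t * t * y = y * (t * t)) : False := by
  classical
  haveI : Fact (Nat.Prime 5) := ⟨by norm_num⟩
  set L : Subgroup ↥H := (Subgroup.zpowers σ).comap π with hL
  obtain ⟨t0, ht0⟩ := hπ τ
  obtain ⟨P⟩ : Nonempty (Sylow 5 ↥L) := inferInstance
  have hLn : ∀ y : ↥H, y ∈ L → t0 * y * t0⁻¹ ∈ L := fun y hy => by
    obtain ⟨j, hj⟩ := Subgroup.mem_zpowers_iff.1 (show π y ∈ Subgroup.zpowers σ from hy)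
    show π (t0 * y * t0⁻¹) ∈ Subgroup.zpowers σ
    rw [map_mul, map_mul, map_inv, ht0, ← hj, ← conj_zpow, hts, ← zpow_natCast, ← zpow_mul]
    exact Subgroup.zpow_mem_zpowers _ _
  let cn : ↥L →* ↥L := MonoidHom.mk' (fun y => ⟨t0 * y * t0⁻¹, hLn _ y.2⟩) fun a b => Subtype.ext (by
    show t0 * (a.1 * b.1) * t0⁻¹ = t0 * a.1 * t0⁻¹ * (t0 * b.1 * t0⁻¹); group)
  have hcn : Function.Injective cn := fun a b h => by
    have h' : t0 * a.1 * t0⁻¹ = t0 * b.1 * t0⁻¹ := congrArg Subtype.val h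
    exact Subtype.ext (by simpa using h')
  let P' : Sylow 5 ↥L := Sylow.ofCard ((P : Subgroup ↥L).map cn) (by
    rw [← Nat.card_congr (Subgroup.equivMapOfInjective _ cn hcn).toEquiv, Sylow.card_eq_multiplicity])
  obtain ⟨l, hl⟩ := MulAction.exists_smul_eq ↥L P' P
  set t1 : ↥H := l * t0 with ht1
  obtain ⟨j, hj⟩ := Subgroup.mem_zpowers_iff.1 (show π (l : ↥H) ∈ Subgroup.zpowers σ from l.2)
  have hπt : π t1 = σ ^ j * τ := by rw [ht1, map_mul, ← hj, ht0]
  set P0 : Subgroup G := ((P : Subgroup ↥L).map L.subtype).map H.subtype with hP0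
  have hn1 : ∀ y ∈ P0, (t1 : G) * y * (t1 : G)⁻¹ ∈ P0 := by
    rintro _ ⟨y1, ⟨y, hy, rfl⟩, rfl⟩
    refine ⟨t1 * y * t1⁻¹, ⟨l * cn y * l⁻¹, ?_, ?_⟩, rfl⟩
    · have h1 : l * cn y * l⁻¹ ∈ ((l • P' : Sylow 5 ↥L) : Subgroup ↥L) := by
        rw [Sylow.coe_subgroup_smul]
        exact Subgroup.mem_map.2 ⟨cn y, Subgroup.mem_map.2 ⟨y, hy, rfl⟩, rfl⟩
      rwa [hl] at h1
    · show (l : ↥H) * (t0 * y * t0⁻¹) * (l : ↥H)⁻¹ = t1 * y * t1⁻¹
      rw [ht1]; group
  -- the image of σ
  obtain ⟨a, ha, haσ⟩ : ∃ a ∈ (P : Subgroup ↥L), π (a : ↥H) = σ := by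
    have hσo : orderOf σ = 5 := orderOf_eq_prime hs hs1
    let ψ : ↥L →* ↥(Subgroup.zpowers σ) := (π.comp L.subtype).codRestrict _ fun y => y.2
    have hψ : Function.Surjective ψ := by
      rintro ⟨y, hy⟩
      obtain ⟨z, rfl⟩ := hπ y
      exact ⟨⟨z, hy⟩, rfl⟩
    haveI : Finite ↥(Subgroup.zpowers σ) := Finite.of_surjective ψ hψ
    have hz : IsPGroup 5 ↥(Subgroup.zpowers σ) := IsPGroup.of_card (n := 1) (by rw [Nat.card_zpowers, hσo, pow_one])
    have htop : (P : Subgroup ↥L).map ψ = ⊤ := by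
      rw [← Subgroup.index_eq_one]
      have hdvd : ((P : Subgroup ↥L).map ψ).index ∣ (P : Subgroup ↥L).index := Subgroup.index_map_dvd _ hψ
      obtain ⟨n, hn⟩ := hz.index ((P : Subgroup ↥L).map ψ)
      rcases Nat.eq_zero_or_pos n with rfl | hn0
      · simpa using hn
      · exact absurd ((dvd_pow_self 5 hn0.ne').trans (hn ▸ hdvd)) P.not_dvd_index
    obtain ⟨a, ha, hae⟩ := Subgroup.mem_map.1 (show (⟨σ, Subgroup.mem_zpowers σ⟩ : ↥(Subgroup.zpowers σ)) ∈
      (P : Subgroup ↥L).map ψ by rw [htop]; exact Subgroup.mem_top _)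
    exact ⟨a, ha, congrArg Subtype.val hae⟩
  -- a power of t1 of 2-power order
  obtain ⟨e, k, he, hek⟩ : ∃ e k : ℕ, ¬ 2 ∣ e ∧ orderOf t1 = 2 ^ k * e := by
    refine ⟨orderOf t1 / 2 ^ (orderOf t1).factorization 2, (orderOf t1).factorization 2,
      Nat.not_dvd_ordCompl (by norm_num) (orderOf_pos t1).ne', (Nat.ordProj_mul_ordCompl_eq_self _ 2).symm⟩
  set t : G := ((t1 ^ e : ↥H) : G) with ht'
  have htk : t ^ 2 ^ k = 1 := by
    rw [ht', ← SubgroupClass.coe_pow, ← pow_mul, mul_comm e, ← hek, pow_orderOf_eq_one]; rfl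
  have hnt : ∀ i : ℕ, ∀ y ∈ P0, ((t1 : G) ^ i) * y * ((t1 : G) ^ i)⁻¹ ∈ P0 := by
    intro i
    induction i with
    | zero => simp
    | succ i ih =>
      intro y hy
      rw [pow_succ', show (t1 : G) * (t1 : G) ^ i * y * ((t1 : G) * (t1 : G) ^ i)⁻¹ =
        (t1 : G) * ((t1 : G) ^ i * y * ((t1 : G) ^ i)⁻¹) * (t1 : G)⁻¹ by group]
      exact hn1 _ (ih y hy)
  have hc := key P0 ((P.2.map _).map _) t k htk
    (fun y hy => by rw [ht', SubgroupClass.coe_pow]; exact hnt e y hy) ((a : ↥H) : G)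
    ⟨a, ⟨a, ha, rfl⟩, rfl⟩
  have hc' : t1 ^ (2 * e) * a * (t1 ^ (2 * e))⁻¹ = a := by
    rw [mul_inv_eq_iff_eq_mul, two_mul, pow_add]; exact Subtype.ext hc
  have hc2 := congrArg π hc'
  rw [map_mul, map_mul, map_inv, map_pow, haσ, hπt] at hc2
  have hconj : ∀ i : ℕ, (σ ^ j * τ) ^ i * σ * ((σ ^ j * τ) ^ i)⁻¹ = σ ^ 2 ^ i := by
    intro i
    induction i with
    | zero => simp
    | succ i ih =>
      have gen : ∀ u g : A, u * τ * g * σ * (u * τ * g)⁻¹ = u * (τ * (g * σ * g⁻¹) * τ⁻¹) * u⁻¹ := fun u g => by group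
      rw [pow_succ' (σ ^ j * τ), gen, ih, ← conj_pow, hts, ← pow_mul, pow_succ',
        ((Commute.refl σ).zpow_left j).pow_right (2 * 2 ^ i) |>.eq, mul_inv_cancel_right]
  rw [hconj] at hc2
  have h5 : σ ^ (2 ^ (2 * e) % 5) = σ := (pow_eq_pow_mod (2 ^ (2 * e)) hs).symm.trans hc2
  rw [four_pow_odd he] at h5
  have hσo : orderOf σ = 5 := orderOf_eq_prime hs hs1
  have h8 : (4 : ℕ) = 1 := by
    refine pow_injOn_Iio_orderOf (x := σ) ?_ ?_ (by simpa using h5) <;>
      simp only [Set.mem_Iio, hσo] <;> omega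
  omega

theorem five_four : ∃ σ τ : Equiv.Perm (Fin 7), Equiv.Perm.sign σ = 1 ∧ Equiv.Perm.sign τ = 1 ∧
    σ ^ 5 = 1 ∧ σ ≠ 1 ∧ τ * σ * τ⁻¹ = σ ^ 2 := by
  refine ⟨c[0, 1, 2, 3, 4], c[1, 2, 4, 3] * c[5, 6], ?_⟩
  decide +kernel

theorem alt_frob {r : ℕ} (hr : 7 ≤ r) : ∃ σ τ : ↥(alternatingGroup (Fin r)),
    σ ^ 5 = 1 ∧ σ ≠ 1 ∧ τ * σ * τ⁻¹ = σ ^ 2 := by
  obtain ⟨σ, τ, h1, h2, h3, h4, h6⟩ := five_four
  let ι := Equiv.Perm.viaEmbeddingHom (Fin.castLEEmb hr)
  have hs : ∀ p, Equiv.Perm.sign (ι p) = Equiv.Perm.sign p := fun p => by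
    show Equiv.Perm.sign (Equiv.Perm.viaEmbedding p _) = _
    rw [Equiv.Perm.viaEmbedding, Equiv.Perm.sign_extendDomain]
  refine ⟨⟨ι σ, Equiv.Perm.mem_alternatingGroup.2 (by rw [hs, h1])⟩,
    ⟨ι τ, Equiv.Perm.mem_alternatingGroup.2 (by rw [hs, h2])⟩, Subtype.ext ?_, fun h => h4 ?_,
    Subtype.ext ?_⟩
  · show ι σ ^ 5 = 1; rw [← map_pow, h3, map_one]
  · exact Equiv.Perm.viaEmbeddingHom_injective _ ((congrArg Subtype.val h).trans (map_one ι).symm)
  · show ι τ * ι σ * (ι τ)⁻¹ = ι σ ^ 2; rw [← map_inv, ← map_mul, ← map_mul, h6, map_pow]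

/-- An elementary abelian group of order 16 in degree eight or more. -/
theorem alt_four {r : ℕ} (hr : 8 ≤ r) : ∃ E : Subgroup ↥(alternatingGroup (Fin r)),
    Nat.card ↥E = 16 ∧ ∀ x ∈ E, x ^ 2 = 1 := by
  let pw : ZMod 2 → Equiv.Perm (Fin 8) → Equiv.Perm (Fin 8) := fun n p => if n = 0 then 1 else p
  let g : ZMod 2 → ZMod 2 → ZMod 2 → ZMod 2 → Equiv.Perm (Fin 8) := fun a b c d =>
    pw a (c[0, 1] * c[2, 3]) * pw b (c[0, 2] * c[1, 3]) * pw c (c[4, 5] * c[6, 7]) * pw d (c[4, 6] * c[5, 7])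
  have h : (∀ a b c d a' b' c' d', g (a + a') (b + b') (c + c') (d + d') = g a b c d * g a' b' c' d') ∧
      (∀ a b c d, Equiv.Perm.sign (g a b c d) = 1) ∧
      (∀ a b c d, g a b c d = 1 → a = 0 ∧ b = 0 ∧ c = 0 ∧ d = 0) ∧ ∀ a : ZMod 2, a + a = 0 := by decide +kernel
  obtain ⟨hm', hsg', hinj', h2⟩ := h
  let f : Multiplicative (ZMod 2 × ZMod 2 × ZMod 2 × ZMod 2) → Equiv.Perm (Fin 8) := fun x =>
    g x.toAdd.1 x.toAdd.2.1 x.toAdd.2.2.1 x.toAdd.2.2.2
  have hm : ∀ x y, f (x * y) = f x * f y := fun x y => hm' _ _ _ _ _ _ _ _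
  have hsg : ∀ x, Equiv.Perm.sign (f x) = 1 := fun x => hsg' _ _ _ _
  have hinj : ∀ x, f x = 1 → x = 1 := fun x hx => by
    obtain ⟨e1, e2, e3, e4⟩ := hinj' _ _ _ _ hx
    exact Multiplicative.toAdd.injective (Prod.ext e1 (Prod.ext e2 (Prod.ext e3 e4)))
  have hsq : ∀ x : Multiplicative (ZMod 2 × ZMod 2 × ZMod 2 × ZMod 2), x ^ 2 = 1 := fun x => by
    rw [pow_two]
    exact Multiplicative.toAdd.injective (Prod.ext (h2 _) (Prod.ext (h2 _) (Prod.ext (h2 _) (h2 _))))
  let ι := Equiv.Perm.viaEmbeddingHom (Fin.castLEEmb hr)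
  have hs : ∀ p, Equiv.Perm.sign (ι p) = Equiv.Perm.sign p := fun p => by
    show Equiv.Perm.sign (Equiv.Perm.viaEmbedding p _) = _
    rw [Equiv.Perm.viaEmbedding, Equiv.Perm.sign_extendDomain]
  let φ : Multiplicative (ZMod 2 × ZMod 2 × ZMod 2 × ZMod 2) →* ↥(alternatingGroup (Fin r)) :=
    MonoidHom.mk' (fun x => ⟨ι (f x), Equiv.Perm.mem_alternatingGroup.2 (by rw [hs, hsg])⟩)
      fun x y => Subtype.ext (by show ι (f (x * y)) = ι (f x) * ι (f y); rw [hm, map_mul])
  have hφ : Function.Injective φ := (injective_iff_map_eq_one φ).2 fun x hx =>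
    hinj x (Equiv.Perm.viaEmbeddingHom_injective _ ((congrArg Subtype.val hx).trans (map_one ι).symm))
  refine ⟨φ.range, ?_, ?_⟩
  · rw [← Nat.card_congr (MonoidHom.ofInjective hφ).toEquiv, Nat.card_eq_fintype_card,
      Fintype.card_multiplicative]
    simp
  · rintro _ ⟨x, rfl⟩
    rw [← map_pow, hsq, map_one]

/-- A subgroup of index at most seven of a larger simple group is the whole group. -/
theorem eq_top_of_index_le {A : Type*} [Group A] [Finite A] [IsSimpleGroup A] (hA : 5040 < Nat.card A)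
    (S : Subgroup A) (hS : S.index ≤ 7) : S = ⊤ := by
  rcases IsSimpleGroup.eq_bot_or_eq_top_of_normal S.normalCore inferInstance with h | h
  · exfalso
    have hinj : Function.Injective (MulAction.toPermHom A (A ⧸ S)) := by
      rw [← MonoidHom.ker_eq_bot_iff, ← Subgroup.normalCore_eq_ker, h]
    have h2 := Nat.card_le_card_of_injective _ hinj
    rw [Nat.card_perm, show Nat.card (A ⧸ S) = S.index from rfl] at h2
    have h3 : S.index.factorial ≤ Nat.factorial 7 := Nat.factorial_le hS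
    have : Nat.factorial 7 = 5040 := by decide
    omega
  · exact top_le_iff.1 (h ▸ Subgroup.normalCore_le S)

/-- A smallest subgroup still mapping onto A. -/
theorem exists_min_lift {G A : Type*} [Group G] [Finite G] [Group A] (H : Subgroup G) (π : ↥H →* A)
    (hπ : Function.Surjective π) :
    ∃ (H' : Subgroup G) (π' : ↥H' →* A), Function.Surjective π' ∧
      ∀ M : Subgroup ↥H', M.map π' = ⊤ → M = ⊤ := by
  classical
  have hex : ∃ n, ∃ (H' : Subgroup G) (π' : ↥H' →* A), Function.Surjective π' ∧ Nat.card ↥H' = n :=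
    ⟨_, H, π, hπ, rfl⟩
  obtain ⟨H', π', hπ', hn⟩ := Nat.find_spec hex
  refine ⟨H', π', hπ', fun M hM => ?_⟩
  let e := Subgroup.equivMapOfInjective M H'.subtype (Subgroup.subtype_injective H')
  have hsur : Function.Surjective ((π'.comp M.subtype).comp e.symm.toMonoidHom) := by
    refine Function.Surjective.comp (g := π'.comp M.subtype) (fun a => ?_) e.symm.surjective
    obtain ⟨x, hx, rfl⟩ := Subgroup.mem_map.1 (hM ▸ Subgroup.mem_top a : a ∈ M.map π')
    exact ⟨⟨x, hx⟩, rfl⟩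
  have hle := Nat.find_min' hex ⟨_, _, hsur, rfl⟩
  rw [← hn, Nat.card_congr e.symm.toEquiv] at hle
  exact Subgroup.eq_top_of_card_eq M (le_antisymm (Subgroup.card_le_card_group M) hle)

/-- With 2-rank at most three, a large simple section of 2-rank four centralises an involution. -/
theorem exists_cent {G A : Type*} [Group G] [Finite G] [Group A] [Finite A] [IsSimpleGroup A]
    (hA : 5040 < Nat.card A) (hrk : ∀ E : Subgroup G, (∀ x ∈ E, x ^ 2 = 1) → Nat.card ↥E ≤ 8)
    (E : Subgroup A) (hE : Nat.card ↥E = 16) (hE2 : ∀ x ∈ E, x ^ 2 = 1)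
    (H : Subgroup G) (π : ↥H →* A) (hπ : Function.Surjective π) :
    ∃ z : G, orderOf z = 2 ∧ ∃ (H' : Subgroup G) (π' : ↥H' →* A), Function.Surjective π' ∧
      H' ≤ Subgroup.centralizer {z} := by
  classical
  haveI : Fact (Nat.Prime 2) := ⟨Nat.prime_two⟩
  obtain ⟨H', π', hπ', hmin⟩ := exists_min_lift H π hπ
  have hfr : π'.ker ≤ frattini ↥H' := by
    refine le_iInf₂ fun M hM => ?_
    by_contra hc
    have hsup : M ⊔ π'.ker = ⊤ := hM.2 _ (left_lt_sup.2 hc)
    refine hM.1 (hmin M ?_)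
    rw [show M.map π' = (M ⊔ π'.ker).map π' by rw [Subgroup.map_sup, (Subgroup.map_eq_bot_iff _).2 le_rfl, sup_bot_eq],
      hsup, ← MonoidHom.range_eq_map, MonoidHom.range_eq_top.2 hπ']
  have hnil : Group.IsNilpotent ↥π'.ker := by
    haveI := frattini_nilpotent (G := ↥H')
    exact (Group.isNilpotent_congr (Subgroup.subgroupOfEquivOfLe hfr)).1 inferInstance
  obtain ⟨P0⟩ : Nonempty (Sylow 2 ↥π'.ker) := inferInstance
  haveI : (P0 : Subgroup ↥π'.ker).Normal := by
    exact (Group.isNilpotent_of_finite_tfae.out 0 3 rfl rfl).mp hnil 2 inferInstance P0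
  haveI := P0.characteristic_of_normal inferInstance
  set W : Subgroup ↥H' := (P0 : Subgroup ↥π'.ker).map π'.ker.subtype with hW
  haveI hWn : W.Normal := ConjAct.normal_of_characteristic_of_normal
  by_cases hWb : W = ⊥
  · exfalso
    -- the kernel has odd order, so E lifts
    obtain ⟨P, hP, hPE⟩ := exists_lift (p := 2) π' hπ' E (IsPGroup.of_card (n := 4) (by rw [hE]; norm_num))
    have hP0 : Nat.card ↥(P0 : Subgroup ↥π'.ker) = 1 := by
      rw [Nat.card_congr (Subgroup.equivMapOfInjective _ π'.ker.subtype (Subgroup.subtype_injective _)).toEquiv,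
        ← hW, hWb, Subgroup.card_bot]
    have hbot : ∀ x ∈ P, π' x = 1 → x = 1 := by
      intro x hx hxk
      obtain ⟨j, hj⟩ := hP ⟨x, hx⟩
      have hx2 : x ^ 2 ^ j = 1 := congrArg Subtype.val hj
      have ho : orderOf x ∣ 2 ^ j := orderOf_dvd_of_pow_eq_one hx2
      obtain ⟨i, -, hi⟩ := (Nat.dvd_prime_pow Nat.prime_two).1 ho
      rcases Nat.eq_zero_or_pos i with rfl | hi0
      · exact orderOf_eq_one_iff.1 (by simpa using hi)
      exfalso
      have h1 : ¬ 2 ∣ Nat.card ↥π'.ker := by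
        have h := P0.not_dvd_index
        have h2 := (P0 : Subgroup ↥π'.ker).card_mul_index
        rw [hP0, one_mul] at h2
        rwa [h2] at h
      refine h1 (((dvd_pow_self 2 hi0.ne').trans (dvd_of_eq hi.symm)).trans ?_)
      have h3 := orderOf_dvd_natCard (⟨x, hxk⟩ : ↥π'.ker)
      rwa [← Subgroup.orderOf_coe] at h3
    have hle := hrk (P.map H'.subtype) (by
      rintro _ ⟨x, hx, rfl⟩
      have h2 : π' (x ^ 2) = 1 := by
        rw [map_pow]; exact hE2 _ (hPE ▸ Subgroup.mem_map_of_mem π' hx)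
      rw [← map_pow, hbot _ (pow_mem hx 2) h2, map_one])
    have h16 : Nat.card ↥P = Nat.card ↥E := by
      refine Nat.card_eq_of_bijective (fun x => (⟨π' x, hPE ▸ Subgroup.mem_map_of_mem π' x.2⟩ : ↥E)) ⟨?_, ?_⟩
      · intro a b h
        have h' : π' a.1 = π' b.1 := congrArg Subtype.val h
        refine Subtype.ext (mul_inv_eq_one.1 (hbot _ (mul_mem a.2 (inv_mem b.2)) ?_))
        rw [map_mul, map_inv, h', mul_inv_cancel]
      · rintro ⟨y, hy⟩
        obtain ⟨x, hx, hxy⟩ := Subgroup.mem_map.1 (hPE.symm ▸ hy : y ∈ P.map π')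
        exact ⟨⟨x, hx⟩, Subtype.ext hxy⟩
    rw [← Nat.card_congr (Subgroup.equivMapOfInjective P H'.subtype (Subgroup.subtype_injective _)).toEquiv,
      h16, hE] at hle
    omega
  · -- an involution of the centre of W
    have hWp : IsPGroup 2 ↥W := P0.2.map _
    haveI : Nontrivial ↥W := (Subgroup.nontrivial_iff_ne_bot W).2 hWb
    haveI := hWp.center_nontrivial
    have h2c : 2 ∣ Nat.card ↥(Subgroup.center ↥W) := by
      obtain ⟨n, hn0, hn⟩ := (hWp.to_subgroup (Subgroup.center ↥W)).nontrivial_iff_card.1 inferInstance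
      rw [hn]; exact dvd_pow_self 2 hn0.ne'
    obtain ⟨z0, hz0⟩ := exists_prime_orderOf_dvd_card' 2 h2c
    set Z : Subgroup ↥H' := (Subgroup.center ↥W).map W.subtype with hZ
    haveI : Z.Normal := ConjAct.normal_of_characteristic_of_normal
    have hZc : ∀ a ∈ Z, ∀ b ∈ Z, a * b = b * a := by
      rintro _ ⟨a, ha, rfl⟩ _ ⟨b, -, rfl⟩
      rw [← map_mul, ← map_mul, (Subgroup.mem_center_iff.1 ha b)]
    let E0 : Subgroup ↥H' :=
      { carrier := {x | x ∈ Z ∧ x ^ 2 = 1}
        one_mem' := ⟨one_mem _, one_pow 2⟩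
        mul_mem' := fun {a b} ha hb => ⟨mul_mem ha.1 hb.1, by
          rw [(show Commute a b from hZc a ha.1 b hb.1).mul_pow, ha.2, hb.2, one_mul]⟩
        inv_mem' := fun {a} ha => ⟨inv_mem ha.1, by rw [inv_pow, ha.2, inv_one]⟩ }
    have hE0 : Nat.card ↥E0 ≤ 8 := by
      have := hrk (E0.map H'.subtype) (by rintro _ ⟨x, hx, rfl⟩; rw [← map_pow, hx.2, map_one])
      rwa [← Nat.card_congr (Subgroup.equivMapOfInjective E0 H'.subtype (Subgroup.subtype_injective _)).toEquiv]
        at this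
    set z : ↥H' := ((z0 : ↥W) : ↥H') with hz
    have hzo : orderOf z = 2 := by rw [hz, Subgroup.orderOf_coe, Subgroup.orderOf_coe, hz0]
    have hzE : z ∈ E0 := ⟨⟨z0, z0.2, rfl⟩, by rw [← hzo, pow_orderOf_eq_one]⟩
    have horb : MulAction.orbit (ConjAct ↥H') z ⊆ (E0 : Set ↥H') \ {1} := by
      rintro _ ⟨g, rfl⟩
      have e : g • z = ConjAct.ofConjAct g * z * (ConjAct.ofConjAct g)⁻¹ := ConjAct.smul_def g z
      simp only [e, Set.mem_diff, SetLike.mem_coe, Set.mem_singleton_iff]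
      refine ⟨⟨(inferInstance : Z.Normal).conj_mem _ hzE.1 _, by rw [conj_pow, hzE.2]; simp⟩, fun h => ?_⟩
      rw [conj_eq_one_iff] at h
      rw [h, orderOf_one] at hzo
      omega
    set S : Subgroup ↥H' := Subgroup.centralizer {z} with hS
    have hSi : S.index ≤ 7 := by
      have h1 : S.index = (MulAction.orbit (ConjAct ↥H') z).ncard := by
        rw [← Nat.card_coe_set_eq, Nat.card_congr (MulAction.orbitEquivQuotientStabilizer (ConjAct ↥H') z),
          ConjAct.stabilizer_eq_centralizer]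
        rfl
      rw [h1]
      refine (Set.ncard_le_ncard horb (Set.toFinite _)).trans ?_
      rw [Set.ncard_sdiff_singleton_of_mem (one_mem E0), ← Nat.card_coe_set_eq]
      have : Nat.card ↥(E0 : Set ↥H') = Nat.card ↥E0 := rfl
      omega
    have hSt : S.map π' = ⊤ := eq_top_of_index_le hA _
      ((Nat.le_of_dvd (Nat.pos_of_ne_zero Subgroup.index_ne_zero_of_finite) (Subgroup.index_map_dvd _ hπ')).trans hSi)
    refine ⟨(z : G), by rw [Subgroup.orderOf_coe, hzo], H', π', hπ', fun g hg => ?_⟩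
    have hgS : (⟨g, hg⟩ : ↥H') ∈ S := by rw [hmin S hSt]; exact Subgroup.mem_top _
    rw [hS, Subgroup.mem_centralizer_singleton_iff] at hgS
    exact Subgroup.mem_centralizer_singleton_iff.2 (congrArg Subtype.val hgS)

/-- A simple section of a product is a section of a factor. -/
theorem section_prod {B C A : Type*} [Group B] [Group C] [Group A] [IsSimpleGroup A] (H : Subgroup (B × C))
    (π : ↥H →* A) (hπ : Function.Surjective π) :
    (∃ (H' : Subgroup B) (π' : ↥H' →* A), Function.Surjective π') ∨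
      ∃ (H' : Subgroup C) (π' : ↥H' →* A), Function.Surjective π' := by
  let K : Subgroup ↥H := ((MonoidHom.snd B C).comp H.subtype).ker
  haveI : (K.map π).Normal := Subgroup.Normal.map inferInstance π hπ
  rcases IsSimpleGroup.eq_bot_or_eq_top_of_normal (K.map π) inferInstance with h | h
  · right
    let s : ↥H →* ↥(H.map (MonoidHom.snd B C)) := (MonoidHom.snd B C).subgroupMap H
    have hs : Function.Surjective s := (MonoidHom.snd B C).subgroupMap_surjective H
    have hk : s.ker ≤ π.ker := fun x hx => by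
      have hxK : x ∈ K := congrArg Subtype.val hx
      have := Subgroup.mem_map_of_mem π hxK
      rw [h, Subgroup.mem_bot] at this
      exact this
    refine ⟨_, MonoidHom.liftOfSurjective s hs ⟨π, hk⟩, fun a => ?_⟩
    obtain ⟨x, rfl⟩ := hπ a
    exact ⟨s x, MonoidHom.liftOfRightInverse_comp_apply _ _ _ ⟨π, hk⟩ x⟩
  · left
    let ι : ↥K →* B := ((MonoidHom.fst B C).comp H.subtype).comp K.subtype
    have hι : Function.Injective ι := fun x y h => by
      refine Subtype.ext (Subtype.ext (Prod.ext h ?_))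
      exact (x.2 : ((x : ↥H) : B × C).2 = 1).trans (y.2 : ((y : ↥H) : B × C).2 = 1).symm
    refine ⟨ι.range, (π.comp K.subtype).comp (MonoidHom.ofInjective hι).symm.toMonoidHom, ?_⟩
    refine Function.Surjective.comp (g := π.comp K.subtype) (fun a => ?_)
      (MonoidHom.ofInjective hι).symm.surjective
    obtain ⟨x, hx, rfl⟩ := Subgroup.mem_map.1 (h ▸ Subgroup.mem_top a : a ∈ K.map π)
    exact ⟨⟨x, hx⟩, rfl⟩

/-- A simple section of a group with a subgroup L of index two is a section of L. -/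
theorem section_index_two {G A : Type*} [Group G] [Finite G] [Group A] [Finite A] [IsSimpleGroup A]
    (hA : 2 < Nat.card A) (H C L : Subgroup G) (hHC : H ≤ C) (hL : L.relIndex C = 2)
    (π : ↥H →* A) (hπ : Function.Surjective π) :
    ∃ (H' : Subgroup G) (π' : ↥H' →* A), Function.Surjective π' ∧ H' ≤ L := by
  let ι : ↥H →* ↥C := Subgroup.inclusion hHC
  haveI : (L.subgroupOf C).Normal := Subgroup.normal_of_index_eq_two hL
  let K : Subgroup ↥H := (L.subgroupOf C).comap ι
  haveI : (K.map π).Normal := Subgroup.Normal.map inferInstance π hπ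
  have hKi : (K.map π).index ≤ 2 := by
    refine (Nat.le_of_dvd (Nat.pos_of_ne_zero Subgroup.index_ne_zero_of_finite) (Subgroup.index_map_dvd _ hπ)).trans ?_
    rw [Subgroup.index_comap]
    exact (Nat.le_of_dvd (by rw [show (L.subgroupOf C).index = 2 from hL]; norm_num) (Subgroup.relIndex_dvd_index_of_normal _ _)).trans hL.le
  rcases IsSimpleGroup.eq_bot_or_eq_top_of_normal (K.map π) inferInstance with h | h
  · rw [h, Subgroup.index_bot] at hKi; omega
  · refine ⟨H ⊓ L, π.comp (Subgroup.inclusion inf_le_left), fun a => ?_, inf_le_right⟩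
    obtain ⟨x, hx, rfl⟩ := Subgroup.mem_map.1 (h ▸ Subgroup.mem_top a : a ∈ K.map π)
    exact ⟨⟨x, x.2, hx⟩, rfl⟩

/-- A 2-group with one involution has no quotient of exponent two and order 16. -/
theorem card_le_four_of_unique {P B : Type*} [Group P] [Finite P] [Group B] (hP : IsPGroup 2 P)
    (hu : ∀ x y : P, orderOf x = 2 → orderOf y = 2 → x = y)
    (f : P →* B) (hf : Function.Surjective f) (hB : ∀ b : B, b ^ 2 = 1) : Nat.card B ≤ 4 := by
  haveI : Fact (Nat.Prime 2) := ⟨Nat.prime_two⟩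
  have hbb : ∀ a b : B, a * b = b * a := fun a b => by
    have hi : ∀ c : B, c⁻¹ = c := fun c => inv_eq_of_mul_eq_one_right (by rw [← pow_two, hB])
    calc a * b = (a * b)⁻¹ := (hi _).symm
      _ = b * a := by rw [mul_inv_rev, hi, hi]
  have two : ∀ a b : B, (∀ c : B, c = 1 ∨ c = a ∨ c = b ∨ c = a * b) → Nat.card B ≤ 4 := fun a b h => by
    have : Function.Surjective (![1, a, b, a * b] : Fin 4 → B) := fun c => by
      rcases h c with rfl | rfl | rfl | rfl
      exacts [⟨0, rfl⟩, ⟨1, rfl⟩, ⟨2, rfl⟩, ⟨3, rfl⟩]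
    simpa using Nat.card_le_card_of_surjective _ this
  have hz : ∀ (b : B) (n : ℤ), b ^ n = 1 ∨ b ^ n = b := fun b n => by
    rcases Int.even_or_odd' n with ⟨k, rfl | rfl⟩
    · exact Or.inl (by rw [zpow_mul, show (2 : ℤ) = ((2 : ℕ) : ℤ) from rfl, zpow_natCast, hB, one_zpow])
    · exact Or.inr (by rw [zpow_add, zpow_mul, show (2 : ℤ) = ((2 : ℕ) : ℤ) from rfl, zpow_natCast, hB, one_zpow,
        one_mul, zpow_one])
  have hu' : Solv.UniqueOrderP 2 P := fun x y hx hy hy1 => by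
    rcases eq_or_ne x 1 with rfl | hx1
    · exact one_mem _
    · rw [hu x y (orderOf_eq_prime hx hx1) (orderOf_eq_prime hy hy1)]; exact Subgroup.mem_zpowers y
  rcases Solv.cyclic_or_quaternion hP hu' with hc | ⟨-, n, ⟨e⟩⟩
  · obtain ⟨g, hg⟩ := hc.exists_generator
    refine two (f g) 1 fun c => ?_
    obtain ⟨x, rfl⟩ := hf c
    obtain ⟨k, rfl⟩ := Subgroup.mem_zpowers_iff.1 (hg x)
    rw [map_zpow]
    rcases hz (f g) k with h | h <;> simp [h]
  · refine two (f (e.symm (QuaternionGroup.a 1))) (f (e.symm (QuaternionGroup.xa 0))) fun c => ?_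
    obtain ⟨x, rfl⟩ := hf c
    obtain ⟨y, rfl⟩ := e.symm.surjective x
    have ha : ∀ i : ZMod (2 * 2 ^ n), QuaternionGroup.a i = (QuaternionGroup.a 1) ^ i.val := fun i => by
      rw [QuaternionGroup.a_one_pow, ZMod.natCast_zmod_val]
    cases y with
    | a i =>
      rw [ha, map_pow, map_pow]
      rcases hz (f (e.symm (QuaternionGroup.a 1))) i.val with h | h <;> rw [zpow_natCast] at h <;> rw [h] <;> simp
    | xa i =>
      rw [show (QuaternionGroup.xa i : QuaternionGroup (2 ^ n)) = QuaternionGroup.xa 0 * QuaternionGroup.a i by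
          simp, ha, map_mul, map_mul, map_pow, map_pow]
      rcases hz (f (e.symm (QuaternionGroup.a 1))) i.val with h | h <;> rw [zpow_natCast] at h <;> rw [h]
      · simp
      · exact Or.inr (Or.inr (Or.inr (hbb _ _)))

/-- A group with one involution has no section of 2-rank four. -/
theorem no_section_of_unique {G A : Type*} [Group G] [Finite G] [Group A]
    (hu : ∀ x y : G, orderOf x = 2 → orderOf y = 2 → x = y) (E : Subgroup A) (hE : Nat.card ↥E = 16)
    (hE2 : ∀ x ∈ E, x ^ 2 = 1) (H : Subgroup G) (π : ↥H →* A) (hπ : Function.Surjective π) : False := by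
  haveI : Fact (Nat.Prime 2) := ⟨Nat.prime_two⟩
  haveI : Finite A := Finite.of_surjective π hπ
  obtain ⟨P, hP, hPE⟩ := exists_lift (p := 2) π hπ E (IsPGroup.of_card (n := 4) (by rw [hE]; norm_num))
  let f : ↥P →* ↥E := (π.comp P.subtype).codRestrict E fun x => hPE ▸ Subgroup.mem_map_of_mem π x.2
  have hf : Function.Surjective f := by
    rintro ⟨y, hy⟩
    obtain ⟨x, hx, hxy⟩ := Subgroup.mem_map.1 (hPE.symm ▸ hy : y ∈ P.map π)
    exact ⟨⟨x, hx⟩, Subtype.ext hxy⟩
  have h := card_le_four_of_unique hP (fun x y hx hy => Subtype.ext (Subtype.ext (hu _ _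
    (by rw [Subgroup.orderOf_coe, Subgroup.orderOf_coe]; exact hx)
    (by rw [Subgroup.orderOf_coe, Subgroup.orderOf_coe]; exact hy)))) f hf (fun b => Subtype.ext (hE2 _ b.2))
  omega

end Cfsg.Agent.Small.AltSec
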